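import Groth.Agent.MeroDivLead.DivMod
import Groth.Agent.MeroFrac.Regular

/-! The divisor of a regular meromorphic section of an invertible module. -/

universe u

open CategoryTheory AlgebraicGeometry TopologicalSpace Opposite

noncomputable section

namespace Groth.Agent.MeroDivLead

open Mero Groth.Agent.GenLocus Groth.Agent.QCohBase

variable {X : Scheme.{u}} {L : X.Modules}

/-- `l ↦ l / 1`. -/
abbrev toM (L : X.Modules) (y : X) (l : L.presheaf.stalk y) : MStalk L y := LocalizedModule.mk l 1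

theorem k_smul_toM {y : X} (r : X.presheaf.stalk y) (l : L.presheaf.stalk y) :
    algebraMap _ (KStalk X y) r • toM L y l = toM L y (r • l) := by
  rw [← Localization.mk_one_eq_algebraMap]
  change (Localization.mk r 1 : KStalk X y) • LocalizedModule.mk l 1 = _
  rw [LocalizedModule.mk_smul_mk, one_mul]

variable {U : X.Opens} {e : Γ(L, U)}

theorem exists_coeff (he : IsFrame L e) {y : X} (hy : y ∈ U) (m : MStalk L y) :
    ∃ c : KStalk X y, m = c • toM L y (L.presheaf.germ U y hy e) := by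
  induction m using LocalizedModule.induction_on with
  | _ v t =>
    obtain ⟨a, rfl⟩ := MeroFrac.exists_germ_eq_smul he hy v
    refine ⟨Localization.mk a t, ?_⟩
    change _ = (Localization.mk a t : KStalk X y) • LocalizedModule.mk _ 1
    rw [LocalizedModule.mk_smul_mk, mul_one]

theorem coeff_unique (he : IsFrame L e) {y : X} (hy : y ∈ U) {c c' : KStalk X y}
    (h : c • toM L y (L.presheaf.germ U y hy e) = c' • toM L y (L.presheaf.germ U y hy e)) : c = c' := by
  rw [← sub_eq_zero, ← sub_smul] at h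
  rw [← sub_eq_zero]
  generalize c - c' = d at h
  induction d using LocalizedModule.induction_on with
  | _ r t =>
    change (Localization.mk r t : KStalk X y) • LocalizedModule.mk _ 1 = 0 at h
    rw [LocalizedModule.mk_smul_mk, ← LocalizedModule.zero_mk (1 : regStalk X y), LocalizedModule.mk_eq] at h
    obtain ⟨w, hw⟩ := h
    rw [one_smul, smul_zero, smul_zero, Submonoid.smul_def, smul_smul] at hw
    have h0 := MeroFrac.smul_germ_frame_eq_zero he hy _ hw
    rw [mul_comm] at h0
    rw [mem_nonZeroDivisors_iff_right.mp (regStalk_le_nonZeroDivisors y w.2) _ h0, LocalizedModule.zero_mk]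

variable (hL : PicF.IsInvertible L) (s : Γ(merMod L, ⊤)) (hs : IsRegularMero L s)

/-- the value of the section -/
abbrev sAt (y : X) : MStalk L y := s.1 ⟨y, Opens.mem_top y⟩

include hs in
theorem exists_unit (he : IsFrame L e) :
    ∃ f : (Γ(kmod X, U))ˣ, ∀ y : U, sAt s y.1 = evalK X U y f • toM L y.1 (L.presheaf.germ U y.1 y.2 e) := by
  choose c hc using fun y : U => exists_coeff he y.2 (sAt s y.1)
  have loc : ∀ x : U, ∃ (W : X.Opens) (_ : x.1 ∈ W) (hW : W ≤ U) (a : Γ(X, W)) (b : regSub X W),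
      a ∈ regSub X W ∧ ∀ y : W, c ⟨y.1, hW y.2⟩ =
        Localization.mk (X.presheaf.germ W y.1 y.2 a) (regGerm y b) := by
    intro x
    obtain ⟨V, hxV, i, m, b, hm⟩ := s.2 ⟨x.1, Opens.mem_top x.1⟩
    let W : X.Opens := V ⊓ U
    obtain ⟨a, ha⟩ := (he.res (inf_le_right : W ≤ U)).bijective.2 (L.presheaf.map (homOfLE (inf_le_left : W ≤ V)).op m)
    have hform : ∀ y : W, c ⟨y.1, y.2.2⟩ =
        Localization.mk (X.presheaf.germ W y.1 y.2 a)
          (regGerm y ⟨_, regSub_res (homOfLE (inf_le_left : W ≤ V)) b.2⟩) := by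
      intro y
      refine coeff_unique he y.2.2 ((hc ⟨y.1, y.2.2⟩).symm.trans ?_)
      have e1 := hm ⟨y.1, y.2.1⟩
      dsimp only at e1
      refine Eq.trans e1 ?_
      change _ = _ • LocalizedModule.mk _ 1
      rw [LocalizedModule.mk_smul_mk, mul_one]
      refine mk_congr ?_ (TopCat.Presheaf.germ_res_apply X.presheaf _ y.1 y.2 b.1).symm
      have e2 := congrArg (L.presheaf.germ W y.1 y.2) ha
      erw [TopCat.Presheaf.germ_res_apply] at e2
      rw [← e2, germ_smul]
      exact congrArg _ (TopCat.Presheaf.germ_res_apply L.presheaf (homOfLE (inf_le_right : W ≤ U)) y.1 y.2 e)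
    refine ⟨W, ⟨hxV, x.2⟩, inf_le_right, a, _, fun y => ?_, hform⟩
    rw [mem_nonZeroDivisors_iff_right]
    intro q hq
    refine algebraMap_KStalk_injective y.1 ?_
    rw [map_zero]
    refine hs y.1 _ ?_
    rw [show s.1 ⟨y.1, Opens.mem_top y.1⟩ = _ from hc ⟨y.1, y.2.2⟩, smul_smul, hform y,
      ← Localization.mk_one_eq_algebraMap, Localization.mk_mul, hq, Localization.mk_zero, zero_smul]
  have hp : (kLoc X).pred c := fun x => by
    obtain ⟨W, hxW, hW, a, b, -, hab⟩ := loc x
    exact ⟨W, hxW, homOfLE hW, a, b, hab⟩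
  have hu : ∀ y : U, IsUnit (c y) := fun y => by
    obtain ⟨W, hxW, hW, a, b, ha, hab⟩ := loc y
    rw [show c y = _ from hab ⟨y.1, hxW⟩]
    refine IsUnit.of_mul_eq_one (Localization.mk (X.presheaf.germ W y.1 hxW b.1)
      (regGerm ⟨y.1, hxW⟩ ⟨a, ha⟩) : KStalk X y.1) ?_
    rw [Localization.mk_mul]
    refine Eq.trans (congrArg (fun n => Localization.mk n _) ?_)
      (Localization.mk_self (regGerm ⟨y.1, hxW⟩ b * regGerm ⟨y.1, hxW⟩ ⟨a, ha⟩))
    rw [Submonoid.coe_mul]
    exact mul_comm _ _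
  let d : ∀ y : U, KStalk X y.1 := fun y => ↑((hu y).unit⁻¹)
  have hd : (kLoc X).pred d := fun x => by
    obtain ⟨W, hxW, hW, a, b, ha, hab⟩ := loc x
    refine ⟨W, hxW, homOfLE hW, b.1, ⟨a, ha⟩, fun y => ?_⟩
    refine ((hu ⟨y.1, hW y.2⟩).unit).inv_eq_of_mul_eq_one_right ?_
    rw [IsUnit.unit_spec, hab y]
    change Localization.mk _ _ * Localization.mk _ _ = 1
    rw [Localization.mk_mul, Localization.mk_eq_mk', IsLocalization.mk'_eq_iff_eq_mul, one_mul]
    simp [mul_comm]
  let cs : Γ(kmod X, U) := ⟨c, hp⟩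
  let ds : Γ(kmod X, U) := ⟨d, hd⟩
  exact ⟨⟨cs, ds, Subtype.ext (funext fun y => (hu y).mul_val_inv),
    Subtype.ext (funext fun y => (hu y).val_inv_mul)⟩, fun y => hc y⟩

include hL hs in
/-- An invertible module with a regular meromorphic section is `O_X(D)`. -/
theorem exists_divisor_of_regularMero : ∃ D : Divisor X, Nonempty (L ≅ divMod D) := by
  classical
  choose U _ hxU _ e he using fun x : X => exists_isFrame hL (W := (⊤ : X.Opens)) (x := x) trivial
  choose f hf using fun x : X => exists_unit s hs (he x)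
  let D : ∀ y : X, Germ X y := fun y => germOf (f y) ⟨y, hxU y⟩
  have agree : ∀ (x : X) (y : U x), D y.1 = germOf (f x) y := by
    intro x y
    obtain ⟨v, hv⟩ := MeroFrac.exists_germ_eq_smul (he x) y.2 (L.presheaf.germ (U y.1) y.1 (hxU y.1) (e y.1))
    obtain ⟨w, hw⟩ := MeroFrac.exists_germ_eq_smul (he y.1) (hxU y.1) (L.presheaf.germ (U x) y.1 y.2 (e x))
    have hvw : v * w = 1 := sub_eq_zero.mp (MeroFrac.smul_germ_frame_eq_zero (he y.1) (hxU y.1) _ (by
      rw [sub_smul, one_smul, mul_smul, ← hw, ← hv, sub_self]))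
    have h1 : evalK X (U y.1) ⟨y.1, hxU y.1⟩ (f y.1) * algebraMap _ _ v = evalK X (U x) y (f x) := by
      refine coeff_unique (he x) y.2 ?_
      rw [← hf x y, mul_smul, k_smul_toM, ← hv, ← hf y.1 ⟨y.1, hxU y.1⟩]
    change germOf (f y.1) ⟨y.1, hxU y.1⟩ = _
    rw [germOf, germOf, QuotientGroup.eq, stalkUnits, MonoidHom.mem_range]
    refine ⟨⟨v, w, hvw, by rw [mul_comm, hvw]⟩, Units.ext ?_⟩
    change algebraMap _ (KStalk X y.1) v = _
    rw [Units.val_mul]
    refine Eq.trans ?_ (congrArg (_ * ·) h1)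
    exact (Units.inv_mul_cancel_left (Units.map (evalK X (U y.1) ⟨y.1, hxU y.1⟩).toMonoidHom (f y.1)) _).symm
  let D' : Divisor X := ⟨D, fun x => ⟨U x, hxU x, f x, agree x⟩⟩
  refine ⟨D', ?_⟩
  have exq : ∀ (V : X.Opens) (l : Γ(L, V)) (y : V), ∃ t : KStalk X y.1,
      t • sAt s y.1 = toM L y.1 (L.presheaf.germ V y.1 y.2 l) := by
    intro V l y
    obtain ⟨a, ha⟩ := exists_coeff (he y.1) (hxU y.1) (toM L y.1 (L.presheaf.germ V y.1 y.2 l))
    refine ⟨a * evalK X (U y.1) ⟨y.1, hxU y.1⟩ ↑(f y.1)⁻¹, ?_⟩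
    rw [ha, hf y.1 ⟨y.1, hxU y.1⟩, smul_smul, mul_assoc, ← map_mul, Units.inv_mul, map_one, mul_one]
  have uniq : ∀ {y : X} {t t' : KStalk X y}, t • sAt s y = t' • sAt s y → t = t' := fun {y t t'} h =>
    sub_eq_zero.mp (hs y (t - t') (by rw [sub_smul]; exact sub_eq_zero.mpr h))
  choose q hq using exq
  have key : ∀ (x : X) (V : X.Opens) (l : Γ(L, V)) (W : X.Opens) (hWU : W ≤ U x) (hWV : W ≤ V) (r : Γ(X, W)),
      r • mres L hWU (e x) = mres L hWV l → ∀ y : W, q V l ⟨y.1, hWV y.2⟩ =
        algebraMap _ (KStalk X y.1) (X.presheaf.germ W y.1 y.2 r) * evalK X (U x) ⟨y.1, hWU y.2⟩ ↑(f x)⁻¹ := by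
    intro x V l W hWU hWV r hr y
    refine uniq ((hq V l ⟨y.1, hWV y.2⟩).trans ?_)
    rw [mul_smul, hf x ⟨y.1, hWU y.2⟩, smul_smul (evalK X (U x) _ _) (evalK X (U x) _ _), ← map_mul,
      Units.inv_mul, map_one, one_smul, k_smul_toM]
    congr 1
    have e2 := congrArg (L.presheaf.germ W y.1 y.2) hr
    rw [germ_smul] at e2
    erw [TopCat.Presheaf.germ_res_apply, TopCat.Presheaf.germ_res_apply] at e2
    exact e2.symm
  let φ : L ⟶ divMod D' :=
    ⟨PresheafOfModules.homMk (M₁ := L.val) (M₂ := (divMod D').val)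
      { app := fun V => AddCommGrpCat.ofHom
          { toFun := fun (l : Γ(L, V.unop)) => (⟨fun y => q V.unop l y, fun x => by
                let W : X.Opens := V.unop ⊓ U x.1
                obtain ⟨r, hr⟩ := ((he x.1).res (inf_le_right : W ≤ U x.1)).bijective.2 (mres L (inf_le_left : W ≤ V.unop) l)
                obtain ⟨W', hW', i, a, b, hab⟩ := ((kmod X).presheaf.map (homOfLE (inf_le_right : W ≤ U x.1)).op
                  (↑(f x.1)⁻¹ : Γ(kmod X, U x.1))).2 ⟨x.1, x.2, hxU x.1⟩
                refine ⟨W', hW', i ≫ homOfLE inf_le_left, X.presheaf.map i.op r * a, b, fun z => ?_⟩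
                refine (key x.1 V.unop l W inf_le_right inf_le_left r hr ⟨z.1, i.le z.2⟩).trans ?_
                have e1 := hab z
                dsimp only at e1
                refine (congrArg (_ * ·) e1).trans ?_
                change _ * Localization.mk _ _ = Localization.mk _ _
                rw [← Localization.mk_one_eq_algebraMap, Localization.mk_mul, one_mul, map_mul,
                  TopCat.Presheaf.germ_res_apply],
              fun x g hg => by
                let W : X.Opens := V.unop ⊓ U x.1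
                obtain ⟨r, hr⟩ := ((he x.1).res (inf_le_right : W ≤ U x.1)).bijective.2 (mres L (inf_le_left : W ≤ V.unop) l)
                change q V.unop l x * (g : KStalk X x.1) ∈ _
                rw [show q V.unop l x = _ from key x.1 V.unop l W inf_le_right inf_le_left r hr ⟨x.1, x.2, hxU x.1⟩,
                  mul_assoc]
                exact mul_mem ⟨_, rfl⟩ (divCond_inv (D := D') (g := Units.map (evalK X (U x.1) ⟨x.1, hxU x.1⟩).toMonoidHom (f x.1)) rfl g hg)⟩ : Γ(divMod D', V.unop))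
            map_zero' := Subtype.ext (funext fun y => uniq ((hq _ _ y).trans (by
              change toM L y.1 (L.presheaf.germ V.unop y.1 y.2 0) = (0 : KStalk X y.1) • sAt s y.1
              rw [map_zero, zero_smul]
              exact LocalizedModule.zero_mk _)))
            map_add' := fun l l' => Subtype.ext (funext fun y => uniq ((hq _ _ y).trans (by
              change _ = (q V.unop l y + q V.unop l' y) • sAt s y.1
              rw [add_smul, hq, hq]
              erw [map_add]
              rw [toM, toM, toM, LocalizedModule.mk_add_mk, one_smul, one_smul,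
                one_mul]))) }
        naturality := fun {V W} i => by
          ext l
          refine Subtype.ext (funext fun y => uniq ((hq _ _ y).trans ?_))
          change _ = q V.unop l ⟨y.1, i.unop.le y.2⟩ • sAt s y.1
          rw [hq]
          exact congrArg (toM L y.1) (TopCat.Presheaf.germ_res_apply' L.presheaf i y.1 y.2 l) }
      (fun V r l => Subtype.ext (funext fun y => uniq ((hq _ _ y).trans (by
        change _ = (X.presheaf.germ V.unop y.1 y.2 r • q V.unop l y) • sAt s y.1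
        rw [Algebra.smul_def, mul_smul, hq, k_smul_toM]
        exact congrArg (toM L y.1) (germ_smul L V.unop y.1 y.2 r l)))))⟩
  have hφ : ∀ (V : X.Opens) (l : Γ(L, V)) (y : V), (φ.app V l).1 y = q V l y := fun _ _ _ => rfl
  have : IsIso φ := by
    rw [Scheme.Modules.Hom.isIso_iff_isIso_app]
    intro V
    rw [ConcreteCategory.isIso_iff_bijective]
    have inj : ∀ (W : X.Opens), Function.Injective (φ.app W) := by
      intro W l l' h
      refine TopCat.Presheaf.section_ext (⟨L.presheaf, L.isSheaf⟩ : TopCat.Sheaf AddCommGrpCat X.toTopCat) W _ _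
        fun y hy => ?_
      have e1 : toM L y (L.presheaf.germ W y hy l) = toM L y (L.presheaf.germ W y hy l') := by
        rw [← hq W l ⟨y, hy⟩, ← hq W l' ⟨y, hy⟩, ← hφ, ← hφ, h]
      obtain ⟨a, ha⟩ := MeroFrac.exists_germ_eq_smul (he y) (hxU y) (L.presheaf.germ W y hy l)
      obtain ⟨a', ha'⟩ := MeroFrac.exists_germ_eq_smul (he y) (hxU y) (L.presheaf.germ W y hy l')
      rw [ha, ha', ← k_smul_toM, ← k_smul_toM] at e1
      change L.presheaf.germ W y hy l = L.presheaf.germ W y hy l'
      rw [ha, ha', algebraMap_KStalk_injective y (coeff_unique (he y) (hxU y) e1)]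
    refine ⟨inj V, fun t => ?_⟩
    have loc : ∀ x : V, ∃ l : Γ(L, V ⊓ U x.1), φ.app (V ⊓ U x.1) l = mres (divMod D') inf_le_left t := by
      intro x
      let W : X.Opens := V ⊓ U x.1
      let t' : Γ(kmod X, W) := (kmod X).presheaf.map (homOfLE (inf_le_left : W ≤ V)).op ⟨t.1, t.2.1⟩
      let fW : Γ(kmod X, W) := (kmod X).presheaf.map (homOfLE (inf_le_right : W ≤ U x.1)).op (f x.1 : Γ(kmod X, U x.1))
      obtain ⟨r, hr⟩ := exists_section (t' * fW) fun y => t.2.2 ⟨y.1, y.2.1⟩ _ (agree x.1 ⟨y.1, y.2.2⟩)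
      refine ⟨r • mres L inf_le_right (e x.1), Subtype.ext (funext fun y => ?_)⟩
      rw [hφ]
      refine (key x.1 W (r • mres L inf_le_right (e x.1)) W inf_le_right le_rfl r (mres_refl L _ _).symm y).trans ?_
      rw [hr y]
      change t.1 ⟨y.1, y.2.1⟩ * evalK X (U x.1) ⟨y.1, y.2.2⟩ (f x.1) * _ = t.1 ⟨y.1, y.2.1⟩
      rw [mul_assoc, ← map_mul, Units.mul_inv, map_one, mul_one]
    choose l hl using loc
    let F : TopCat.Sheaf AddCommGrpCat X.toTopCat := ⟨L.presheaf, L.isSheaf⟩
    obtain ⟨m, hm, -⟩ := F.existsUnique_gluing' (fun x : V => V ⊓ U x.1) V (fun x => homOfLE inf_le_left)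
      (fun z hz => Opens.mem_iSup.mpr ⟨⟨z, hz⟩, hz, hxU z⟩) l
      (fun x x' => by
        refine inj _ (Subtype.ext (funext fun y => ?_))
        have nat : ∀ (x : V) (hle : (V ⊓ U x.1) ⊓ (V ⊓ U x.1) ≤ V ⊓ U x.1), True := fun _ _ => trivial
        rw [hφ, hφ]
        refine uniq ((hq _ _ y).trans (Eq.trans ?_ (hq _ _ y).symm))
        erw [TopCat.Presheaf.germ_res_apply, TopCat.Presheaf.germ_res_apply]
        have e1 := congrArg (fun u : Γ(divMod D', _) => u.1 ⟨y.1, y.2.1⟩) (hl x)
        have e2 := congrArg (fun u : Γ(divMod D', _) => u.1 ⟨y.1, y.2.2⟩) (hl x')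
        rw [hφ] at e1 e2
        exact (hq _ (l x) ⟨y.1, y.2.1⟩).symm.trans
          ((congrArg (· • sAt s y.1) (e1.trans e2.symm)).trans (hq _ (l x') ⟨y.1, y.2.2⟩)))
    refine ⟨m, Subtype.ext (funext fun y => ?_)⟩
    rw [hφ]
    refine uniq ((hq V m y).trans ?_)
    have e1 := congrArg (fun u : Γ(divMod D', V ⊓ U y.1) => u.1 ⟨y.1, y.2, hxU y.1⟩) (hl y)
    rw [hφ] at e1
    have e2 := hq _ (l y) ⟨y.1, y.2, hxU y.1⟩
    rw [e1] at e2
    refine Eq.trans ?_ e2.symm
    refine congrArg (toM L y.1) ?_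
    rw [← hm y]
    exact (TopCat.Presheaf.germ_res_apply L.presheaf (homOfLE inf_le_left) y.1
      (show y.1 ∈ V ⊓ U y.1 from ⟨y.2, hxU y.1⟩) m).symm
  exact ⟨asIso φ⟩

end Groth.Agent.MeroDivLead
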