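import Groth.Agent.MeroDivLead.Extend
import Groth.Agent.MeroDivLead.OfSection
import Groth.Agent.AssPtsMore.Basic

/-! Invertible modules have regular meromorphic sections when associated points lie in an affine open. -/

universe u

open CategoryTheory AlgebraicGeometry TopologicalSpace Opposite

noncomputable section

namespace Groth.Agent.MeroDivLead

open Mero Groth.Agent.GenLocus Groth.Agent.QCohBase

variable {X : Scheme.{u}} {L : X.Modules}

/-- A germ that generates the stalk. -/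
def Gen (L : X.Modules) (z : X) (v : L.presheaf.stalk z) : Prop :=
  ∀ w : L.presheaf.stalk z, ∃ c : X.presheaf.stalk z, w = c • v

theorem exists_generating (hL : PicF.IsInvertible L) {W : X.Opens} (hW : IsAffineOpen W)
    (S : Finset W) : ∃ e : Γ(L, W), ∀ z ∈ S, Gen L z.1 (L.presheaf.germ W z.1 z.2 e) := by
  classical
  haveI : L.IsQuasicoherent := TensorMod.isQCoh_of_isInvertible hL
  have each : ∀ z : W, ∃ e : Γ(L, W), Gen L z.1 (L.presheaf.germ W z.1 z.2 e) := by
    intro z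
    obtain ⟨A, -, hzA, -, e, he⟩ := exists_isFrame hL (W := W) z.2
    obtain ⟨g, s, hg, hs⟩ := AssPts.exists_germ_smul_eq L hW z.1 z.2 (L.presheaf.germ A z.1 hzA e)
    obtain ⟨v, hv⟩ := (AssPts.notMem_prime_iff hW z.1 z.2 g).1 hg
    refine ⟨s, fun w => ?_⟩
    obtain ⟨c, rfl⟩ := MeroFrac.exists_germ_eq_smul he hzA w
    refine ⟨c * (↑v⁻¹ : X.presheaf.stalk z.1), ?_⟩
    rw [← hs, ← hv, smul_smul, mul_assoc, Units.inv_mul, mul_one]
  induction h : S.card using Nat.strong_induction_on generalizing S with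
  | _ n ih =>
    subst h
    rcases S.eq_empty_or_nonempty with rfl | hne
    · exact ⟨0, by simp⟩
    obtain ⟨z, hzS, hzmin⟩ :=
      (S.finite_toSet.exists_minimalFor (fun z => (hW.primeIdealOf z).asIdeal) (S : Set W) (Finset.coe_nonempty.2 hne))
    obtain ⟨e, he⟩ := ih _ (Finset.card_erase_lt_of_mem hzS) (S.erase z) rfl
    by_cases hg : Gen L z.1 (L.presheaf.germ W z.1 z.2 e)
    · refine ⟨e, fun w hw => ?_⟩
      by_cases hwz : w = z
      · subst hwz; exact hg
      · exact he w (Finset.mem_erase.2 ⟨hwz, hw⟩)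
    obtain ⟨ez, hez⟩ := each z
    have hsep : ∀ w ∈ S.erase z, ∃ l : Γ(X, W), l ∈ (hW.primeIdealOf w).asIdeal ∧ l ∉ (hW.primeIdealOf z).asIdeal := by
      intro w hw
      refine SetLike.not_le_iff_exists.1 fun hle => (Finset.mem_erase.1 hw).1 ?_
      have heq := le_antisymm hle (hzmin (Finset.mem_erase.1 hw).2 hle)
      exact Subtype.ext (by
        rw [← hW.fromSpec_primeIdealOf w, ← hW.fromSpec_primeIdealOf z, PrimeSpectrum.ext heq])
    choose l hl1 hl2 using hsep
    let lam : Γ(X, W) := ∏ w ∈ (S.erase z).attach, l w.1 w.2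
    refine ⟨e + lam • ez, fun w hw => ?_⟩
    rw [map_add, germ_smul]
    have upd : ∀ (p : X) (v₀ v : L.presheaf.stalk p), Gen L p v₀ → ∀ c : X.presheaf.stalk p,
        ∀ d : X.presheaf.stalk p, v = d • v₀ → IsUnit (c + d) → Gen L p (c • v₀ + v) := by
      intro p v₀ v h c d hd hu q
      obtain ⟨r, rfl⟩ := h q
      obtain ⟨u, hu⟩ := hu
      refine ⟨r * (↑u⁻¹ : X.presheaf.stalk p), ?_⟩
      rw [hd, ← add_smul, ← hu, smul_smul, mul_assoc, Units.inv_mul, mul_one]
    by_cases hwz : w = z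
    · subst hwz
      obtain ⟨c, hc⟩ := hez (L.presheaf.germ W w.1 w.2 e)
      rw [hc]
      refine upd w.1 _ _ hez c _ rfl ?_
      have hcm : c ∈ IsLocalRing.maximalIdeal (X.presheaf.stalk w.1) := by
        intro hu
        apply hg
        intro q
        obtain ⟨r, rfl⟩ := hez q
        obtain ⟨u, rfl⟩ := hu
        refine ⟨r * (↑u⁻¹ : X.presheaf.stalk w.1), ?_⟩
        rw [hc, smul_smul, mul_assoc, Units.inv_mul, mul_one]
      have hlu : IsUnit (X.presheaf.germ W w.1 w.2 lam) := by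
        refine (AssPts.notMem_prime_iff hW w.1 w.2 lam).1 fun hmem => ?_
        obtain ⟨v, -, hv⟩ := ((hW.primeIdealOf w).isPrime.prod_mem_iff).1 hmem
        exact hl2 v.1 v.2 hv
      by_contra hn
      exact hlu.elim fun u hu => (IsLocalRing.maximalIdeal.isMaximal (X.presheaf.stalk w.1)).ne_top
        (Ideal.eq_top_of_isUnit_mem _ (x := X.presheaf.germ W w.1 w.2 lam) (by
          have := Ideal.sub_mem _ (show c + X.presheaf.germ W w.1 w.2 lam ∈ IsLocalRing.maximalIdeal _ from hn) hcm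
          simpa using this) ⟨u, hu⟩)
    · have hwe := Finset.mem_erase.2 ⟨hwz, hw⟩
      obtain ⟨d, hd⟩ := he w hwe (L.presheaf.germ W w.1 w.2 ez)
      rw [← one_smul (X.presheaf.stalk w.1) (L.presheaf.germ W w.1 w.2 e), hd, smul_smul]
      refine upd w.1 _ _ (he w hwe) 1 _ rfl ?_
      have hmem : X.presheaf.germ W w.1 w.2 lam * d ∈ IsLocalRing.maximalIdeal _ := Ideal.mul_mem_right _ _
        ((AssPts.mem_prime_iff hW w.1 w.2 lam).1 ((hW.primeIdealOf w).isPrime.prod_mem_iff.2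
          ⟨⟨w, hwe⟩, Finset.mem_attach _ _, hl1 w hwe⟩))
      by_contra hn
      exact (IsLocalRing.maximalIdeal.isMaximal (X.presheaf.stalk w.1)).ne_top ((Ideal.eq_top_iff_one _).2 (by
        have := Ideal.sub_mem _ (show (1 : X.presheaf.stalk w.1) + X.presheaf.germ W w.1 w.2 lam * d ∈
          IsLocalRing.maximalIdeal _ from hn) hmem
        simpa using this))

theorem hasRegularMero_of_ass_affine [IsLocallyNoetherian X] (hL : PicF.IsInvertible L) {W : X.Opens}
    (hW : IsAffineOpen W) (hass : ∀ (A : X.Opens), ∀ z ∈ MeroFrac.wass A, z ∈ W) : HasRegularMero L := by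
  classical
  haveI := (MeroFrac.finite_wass hW).fintype
  obtain ⟨e₀, he₀⟩ := exists_generating hL hW ((Finset.univ : Finset (MeroFrac.wass W)).image fun z : MeroFrac.wass W => (⟨z.1, z.2.1⟩ : W))
  haveI := AssPts.isQuasicoherent_structureModule X
  have hinj : ∀ A B : X.Opens, B ≤ A → Function.Injective ⇑(X.presheaf.map (homOfLE (inf_le_left : B ⊓ (A ⊓ W) ≤ B)).op) :=
    fun A B hBA => AssPtsMore.res_injective (Coh.structureModule X) (inf_le_left : B ⊓ (A ⊓ W) ≤ B)
      fun y hy hyA => ⟨hy, hBA hy, hass B y ⟨hy, (AssPts.isAssPoint_iff_isWeakAssPoint _ y).1 hyA⟩⟩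
  choose A hA hxA _ e he using fun x : X => exists_isFrame hL (W := (⊤ : X.Opens)) (x := x) trivial
  have hc : ∀ x, ∃ c : Γ(X, A x ⊓ W), c • mres L (inf_le_left : A x ⊓ W ≤ A x) (e x) = mres L inf_le_right e₀ :=
    fun x => ((he x).res inf_le_left).bijective.2 _
  choose c hc using hc
  choose σ hσ using fun x => exists_extension (U := A x) (V := A x ⊓ W) inf_le_left (hinj (A x))
    (fun B hB => MeroFrac.finite_wass hB) (fun B hB hBA z hz => ⟨hBA hz.1, hass B z hz⟩) (c x)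
  have hσ' : ∀ (x : X) (y : X) (hy : y ∈ A x ⊓ W), evalK X (A x) ⟨y, hy.1⟩ (σ x) =
      algebraMap _ (KStalk X y) (X.presheaf.germ (A x ⊓ W) y hy (c x)) := fun x y hy =>
    congrArg (fun u : Γ(kmod X, A x ⊓ W) => u.1 ⟨y, hy⟩) (hσ x)
  let val : ∀ y : X, MStalk L y := fun y =>
    evalK X (A y) ⟨y, hxA y⟩ (σ y) • toM L y (L.presheaf.germ (A y) y (hxA y) (e y))
  have agree : ∀ (x : X) (y : A x),
      val y.1 = evalK X (A x) y (σ x) • toM L y.1 (L.presheaf.germ (A x) y.1 y.2 (e x)) := by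
    intro x y
    let T : X.Opens := A x ⊓ A y.1
    have hyT : y.1 ∈ T := ⟨y.2, hxA y.1⟩
    obtain ⟨r, hr⟩ := ((he x).res (inf_le_left : T ≤ A x)).bijective.2 (mres L (inf_le_right : T ≤ A y.1) (e y.1))
    have hrz : ∀ (z : X) (hz : z ∈ T), L.presheaf.germ (A y.1) z hz.2 (e y.1) =
        X.presheaf.germ T z hz r • L.presheaf.germ (A x) z hz.1 (e x) := fun z hz => by
      have := congrArg (L.presheaf.germ T z hz) hr
      rw [germ_smul] at this
      erw [TopCat.Presheaf.germ_res_apply, TopCat.Presheaf.germ_res_apply] at this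
      exact this.symm
    have heq := restrict_injective T (T ⊓ W) inf_le_left (fun B hB => hinj T B hB)
      (a₁ := (kmod X).presheaf.map (homOfLE (inf_le_right : T ≤ A y.1)).op (σ y.1) * toK X T r)
      (a₂ := (kmod X).presheaf.map (homOfLE (inf_le_left : T ≤ A x)).op (σ x))
      (Subtype.ext (funext fun z => by
        change evalK X (A y.1) ⟨z.1, z.2.1.2⟩ (σ y.1) * algebraMap _ (KStalk X z.1) (X.presheaf.germ T z.1 z.2.1 r) =
          evalK X (A x) ⟨z.1, z.2.1.1⟩ (σ x)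
        rw [hσ' y.1 z.1 ⟨z.2.1.2, z.2.2⟩, hσ' x z.1 ⟨z.2.1.1, z.2.2⟩, ← map_mul]
        congr 1
        refine sub_eq_zero.1 (MeroFrac.smul_germ_frame_eq_zero (he x) z.2.1.1 _ ?_)
        rw [sub_smul, mul_smul, ← hrz z.1 z.2.1]
        have e1 := congrArg (L.presheaf.germ (A y.1 ⊓ W) z.1 ⟨z.2.1.2, z.2.2⟩) (hc y.1)
        have e2 := congrArg (L.presheaf.germ (A x ⊓ W) z.1 ⟨z.2.1.1, z.2.2⟩) (hc x)
        rw [germ_smul] at e1 e2
        erw [TopCat.Presheaf.germ_res_apply, TopCat.Presheaf.germ_res_apply] at e1 e2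
        rw [e1, e2, sub_self]))
    have hy' := congrArg (fun u : Γ(kmod X, T) => u.1 ⟨y.1, hyT⟩) heq
    change evalK X (A y.1) ⟨y.1, hxA y.1⟩ (σ y.1) * algebraMap _ (KStalk X y.1) (X.presheaf.germ T y.1 hyT r) =
      evalK X (A x) y (σ x) at hy'
    change evalK X (A y.1) ⟨y.1, hxA y.1⟩ (σ y.1) • toM L y.1 _ = _
    rw [← hy', hrz y.1 hyT, ← k_smul_toM, smul_smul]
  refine ⟨⟨fun y => val y.1, fun x => ?_⟩, fun y q hq => ?_⟩
  · obtain ⟨B, hB, i, a, b, hab⟩ := (σ x.1).2 ⟨x.1, hxA x.1⟩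
    refine ⟨B, hB, homOfLE le_top, a • mres L i.le (e x.1), b, fun z => ?_⟩
    refine (agree x.1 ⟨z.1, i.le z.2⟩).trans ?_
    have e1 := hab z
    dsimp only at e1
    refine (congrArg (· • _) e1).trans ?_
    change (Localization.mk (X.presheaf.germ B z.1 z.2 a) (regGerm z b) : KStalk X z.1) • LocalizedModule.mk _ 1 = _
    rw [LocalizedModule.mk_smul_mk, mul_one]
    refine mk_congr ?_ rfl
    rw [germ_smul]
    exact congrArg _ (TopCat.Presheaf.germ_res_apply L.presheaf i z.1 z.2 (e x.1)).symm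
  · change q • val y = 0 at hq
    rw [smul_smul, ← zero_smul (KStalk X y) (toM L y (L.presheaf.germ (A y) y (hxA y) (e y)))] at hq
    have h0 := coeff_unique (he y) (hxA y) hq
    obtain ⟨B, hyB, hBA, a, b, hB, hab⟩ := exists_frac_nhds (σ y) ⟨y, hxA y⟩
    have hareg : a ∈ regSub X B := MeroFrac.mem_regSub_of_units hB fun z hz => by
      have hzW : z ∈ W := hass B z hz
      have e1 := hab ⟨z, hz.1⟩
      rw [show (σ y).1 ⟨z, hBA hz.1⟩ = _ from hσ' y z ⟨hBA hz.1, hzW⟩, ← map_mul] at e1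
      rw [← algebraMap_KStalk_injective z e1]
      refine IsUnit.mul ?_ (MeroFrac.unit_of_nzd hz.2 (b.2 ⟨z, hz.1⟩))
      obtain ⟨d, hd⟩ := he₀ ⟨z, hzW⟩ (Finset.mem_image.2 ⟨⟨z, hzW, hz.2⟩, Finset.mem_univ _, rfl⟩)
        (L.presheaf.germ (A y) z (hBA hz.1) (e y))
      have e2 := congrArg (L.presheaf.germ (A y ⊓ W) z ⟨hBA hz.1, hzW⟩) (hc y)
      rw [germ_smul] at e2
      erw [TopCat.Presheaf.germ_res_apply, TopCat.Presheaf.germ_res_apply] at e2
      refine IsUnit.of_mul_eq_one d (sub_eq_zero.1 (MeroFrac.smul_germ_frame_eq_zero (he y) (hBA hz.1) _ ?_))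
      rw [sub_smul, one_smul, mul_comm, mul_smul, e2, ← hd, sub_self]
    have hu : IsUnit (evalK X (A y) ⟨y, hxA y⟩ (σ y)) :=
      isUnit_of_mul_isUnit_left ((hab ⟨y, hyB⟩).symm ▸
        IsLocalization.map_units (KStalk X y) (regGerm ⟨y, hyB⟩ ⟨a, hareg⟩))
    exact hu.mul_left_eq_zero.1 h0

end Groth.Agent.MeroDivLead
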