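import Groth.Agent.MeroDivLead.DivMod
import Mathlib.AlgebraicGeometry.Noetherian
import Mathlib.RingTheory.KrullDimension.Zero
import Mathlib.RingTheory.Artinian.Ring

/-! Elementary facts on regular sections and meromorphic functions. -/

universe u

open CategoryTheory AlgebraicGeometry TopologicalSpace Opposite

noncomputable section

namespace Groth.Agent.MeroDivLead

open Mero

variable {X : Scheme.{u}}

theorem regSub_eq_nonZeroDivisors (U : X.Opens) (hU : IsAffineOpen U) :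
    regSub X U = nonZeroDivisors Γ(X, U) := by
  ext f
  refine ⟨fun h => mem_nonZeroDivisors_iff_right.mpr fun c hc => ?_, fun h y => ?_⟩
  · refine TopCat.Presheaf.section_ext X.sheaf _ _ _ fun y hy => ?_
    refine (mem_nonZeroDivisors_iff_right.mp (h ⟨y, hy⟩) _ ?_).trans (map_zero _).symm
    change X.presheaf.germ U y hy c * X.presheaf.germ U y hy f = 0
    rw [← map_mul, hc, map_zero]
  · let := TopCat.Presheaf.algebra_section_stalk X.presheaf y
    have := hU.isLocalization_stalk y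
    exact IsLocalization.map_nonZeroDivisors_le (hU.primeIdealOf y).asIdeal.primeCompl _
      ⟨f, h, rfl⟩

theorem germ_eq_one_of_isUnit (x : X) (h : ∀ s : regStalk X x, IsUnit (s : X.presheaf.stalk x))
    (g : Germ X x) : g = 1 := by
  obtain ⟨g, rfl⟩ := QuotientGroup.mk_surjective g
  obtain ⟨⟨a, s⟩, e⟩ := IsLocalization.surj (regStalk X x) (g : KStalk X x)
  obtain ⟨v, hv⟩ := h s
  rw [← hv] at e
  have hg : (g : KStalk X x) = algebraMap _ _ (a * (↑v⁻¹ : X.presheaf.stalk x)) := by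
    rw [map_mul, ← e, mul_assoc, ← map_mul, Units.mul_inv, map_one, mul_one]
  obtain ⟨⟨b, t⟩, e'⟩ := IsLocalization.surj (regStalk X x) ((g⁻¹ : (KStalk X x)ˣ) : KStalk X x)
  obtain ⟨w, hw⟩ := h t
  rw [← hw] at e'
  have hg' : ((g⁻¹ : (KStalk X x)ˣ) : KStalk X x) = algebraMap _ _ (b * (↑w⁻¹ : X.presheaf.stalk x)) := by
    rw [map_mul, ← e', mul_assoc, ← map_mul, Units.mul_inv, map_one, mul_one]
  have hu : a * (↑v⁻¹ : X.presheaf.stalk x) * (b * (↑w⁻¹ : X.presheaf.stalk x)) = 1 := by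
    apply algebraMap_KStalk_injective x
    rw [map_mul, ← hg, ← hg', Units.mul_inv, map_one]
  rw [QuotientGroup.eq_one_iff, stalkUnits, MonoidHom.mem_range]
  exact ⟨⟨_, _, hu, by rw [mul_comm, hu]⟩, Units.ext hg.symm⟩

theorem one_le_dim_of_mem_supp [IsLocallyNoetherian X] (D : Divisor X) (z : X) (hz : z ∈ supp D) :
    (1 : WithBot ℕ∞) ≤ ringKrullDim (X.presheaf.stalk z) := by
  by_contra h
  apply hz
  refine germ_eq_one_of_isUnit z (fun s => ?_) _
  have : Ring.KrullDimLE 0 (X.presheaf.stalk z) := Ring.krullDimLE_iff.mpr (by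
    rcases h' : ringKrullDim (X.presheaf.stalk z) with _ | n
    · exact bot_le
    · rw [h'] at h
      have hn : n < 1 := WithBot.coe_lt_coe.mp (not_le.mp h)
      rw [Order.lt_one_iff] at hn
      subst hn
      exact le_rfl)
  by_contra hs
  obtain ⟨n, hn⟩ := (Ring.KrullDimLE.isNilpotent_iff_mem_nonunits.mpr hs : IsNilpotent (s : X.presheaf.stalk z))
  have h0 : (0 : X.presheaf.stalk z) ∈ nonZeroDivisors (X.presheaf.stalk z) :=
    hn ▸ pow_mem (regStalk_le_nonZeroDivisors z s.2) n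
  exact one_ne_zero (mem_nonZeroDivisors_iff_right.mp h0 1 (by simp))

theorem exists_frac_nhds {U : X.Opens} (t : Γ(kmod X, U)) (x : U) :
    ∃ (W : X.Opens) (_ : x.1 ∈ W) (hW : W ≤ U) (a : Γ(X, W)) (b : regSub X W),
      IsAffineOpen W ∧ ∀ z : W, t.1 ⟨z.1, hW z.2⟩ * algebraMap _ (KStalk X z.1) (X.presheaf.germ W z.1 z.2 b.1) =
        algebraMap _ (KStalk X z.1) (X.presheaf.germ W z.1 z.2 a) := by
  obtain ⟨V, hxV, i, a, b, hab⟩ := t.2 x
  obtain ⟨_, ⟨W, hW, rfl⟩, hxW, hWV⟩ := X.isBasis_affineOpens.exists_subset_of_mem_open hxV V.2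
  refine ⟨W, hxW, fun z hz => i.le (hWV hz), X.presheaf.map (homOfLE (SetLike.coe_subset_coe.mp hWV)).op a,
    ⟨_, regSub_res (homOfLE (SetLike.coe_subset_coe.mp hWV)) b.2⟩, hW, fun z => ?_⟩
  simp only [TopCat.Presheaf.germ_res_apply]
  have e := hab ⟨z.1, hWV z.2⟩
  dsimp only at e
  erw [e]
  change Localization.mk (X.presheaf.germ V z.1 (hWV z.2) a) (regGerm ⟨z.1, hWV z.2⟩ b) *
    algebraMap _ (KStalk X z.1) ((regGerm ⟨z.1, hWV z.2⟩ b : regStalk X z.1) : X.presheaf.stalk z.1) = _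
  rw [Localization.mk_eq_mk', IsLocalization.mk'_spec]

theorem restrict_injective (U V : X.Opens) (hVU : V ≤ U)
    (hV : ∀ W : X.Opens, W ≤ U →
      Function.Injective ⇑(X.presheaf.map (homOfLE (inf_le_left : W ⊓ V ≤ W)).op)) :
    Function.Injective ⇑((kmod X).presheaf.map (homOfLE hVU).op) := by
  rw [injective_iff_map_eq_zero]
  intro t ht
  refine Subtype.ext (funext fun x => ?_)
  obtain ⟨W, hxW, hWU, a, b, -, hab⟩ := exists_frac_nhds t x
  have ha : a = 0 := hV W hWU (by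
    rw [map_zero]
    refine TopCat.Presheaf.section_ext X.sheaf _ _ _ fun y hy => ?_
    erw [TopCat.Presheaf.germ_res_apply]
    refine Eq.trans ?_ (map_zero _).symm
    refine algebraMap_KStalk_injective y ?_
    have e0 : t.1 ⟨y, hVU hy.2⟩ = 0 := congrArg (fun s : Γ(kmod X, V) => s.1 ⟨y, hy.2⟩) ht
    refine Eq.trans ?_ (map_zero _).symm
    exact (hab ⟨y, hy.1⟩).symm.trans (by rw [e0, zero_mul]))
  have e := hab ⟨x.1, hxW⟩
  rw [ha, map_zero, map_zero] at e
  exact (IsLocalization.map_units (KStalk X x.1) (regGerm ⟨x.1, hxW⟩ b)).mul_left_eq_zero.mp e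

/-- The domain of definition of a meromorphic function is open and schematically dense. -/
theorem exists_domain (f : Γ(kmod X, ⊤)) :
    ∃ D : X.Opens,
      (D : Set X) = {x | f.1 ⟨x, Opens.mem_top x⟩ ∈ (algebraMap (X.presheaf.stalk x) (KStalk X x)).range} ∧
        ∀ V : X.Opens, Function.Injective (X.presheaf.map (homOfLE (inf_le_left : V ⊓ D ≤ V)).op) := by
  have hopen : IsOpen {x : X | f.1 ⟨x, Opens.mem_top x⟩ ∈
      (algebraMap (X.presheaf.stalk x) (KStalk X x)).range} := by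
    rw [isOpen_iff_forall_mem_open]
    rintro x ⟨c, hc⟩
    obtain ⟨W, hxW, hW0, a, b, -, hab⟩ := exists_frac_nhds f ⟨x, Opens.mem_top x⟩
    obtain ⟨W₁, hxW₁, τ, rfl⟩ := X.presheaf.exists_germ_eq c
    have he : X.presheaf.germ (W₁ ⊓ W) x ⟨hxW₁, hxW⟩ (X.presheaf.map (homOfLE inf_le_right).op a) =
        X.presheaf.germ (W₁ ⊓ W) x ⟨hxW₁, hxW⟩
          (X.presheaf.map (homOfLE inf_le_left).op τ * X.presheaf.map (homOfLE inf_le_right).op b.1) := by
      rw [map_mul]
      erw [TopCat.Presheaf.germ_res_apply, TopCat.Presheaf.germ_res_apply, TopCat.Presheaf.germ_res_apply]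
      refine algebraMap_KStalk_injective x ?_
      rw [map_mul]
      exact ((hab ⟨x, hxW⟩).symm.trans (congrArg (· * _) hc.symm))
    obtain ⟨W', hxW', j, j', hW'⟩ := X.presheaf.germ_eq x _ _ _ _ he
    refine ⟨W', fun z hz => ?_, W'.2, hxW'⟩
    refine ⟨X.presheaf.germ W₁ z (j.le hz).1 τ, ?_⟩
    have hzz : X.presheaf.germ W z (j.le hz).2 a =
        X.presheaf.germ W₁ z (j.le hz).1 τ * X.presheaf.germ W z (j.le hz).2 b.1 := by
      have := congrArg (X.presheaf.germ W' z hz) hW'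
      simpa only [map_mul, TopCat.Presheaf.germ_res_apply] using this
    have e := hab ⟨z, (j.le hz).2⟩
    rw [hzz, map_mul] at e
    exact ((IsLocalization.map_units (KStalk X z) (regGerm ⟨z, (j.le hz).2⟩ b)).mul_right_cancel e).symm
  refine ⟨⟨_, hopen⟩, rfl, ?_⟩
  · intro V
    rw [injective_iff_map_eq_zero]
    intro r hr
    refine TopCat.Presheaf.section_ext X.sheaf _ _ _ fun x hx => ?_
    refine Eq.trans ?_ (map_zero _).symm
    obtain ⟨W₀, hxW₀, hW0, a, b, -, hab⟩ := exists_frac_nhds f ⟨x, Opens.mem_top x⟩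
    obtain ⟨_, ⟨W, hW, rfl⟩, hxW, hWV⟩ := X.isBasis_affineOpens.exists_subset_of_mem_open
      (show x ∈ V ⊓ W₀ from ⟨hx, hxW₀⟩) (V ⊓ W₀).2
    let bW : Γ(X, W) := X.presheaf.map (homOfLE (fun z hz => (hWV hz).2 : W ≤ W₀)).op b.1
    let rW : Γ(X, W) := X.presheaf.map (homOfLE (fun z hz => (hWV hz).1 : W ≤ V)).op r
    have hrb : X.presheaf.map (homOfLE (X.basicOpen_le bW)).op rW = 0 := by
      refine TopCat.Presheaf.section_ext X.sheaf _ _ _ fun z hz => ?_
      have hzW : z ∈ W := X.basicOpen_le bW hz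
      have hbu : IsUnit (X.presheaf.germ W₀ z (hWV hzW).2 b.1) := by
        have := (X.mem_basicOpen bW z hzW).mp hz
        simpa only [bW, TopCat.Presheaf.germ_res_apply] using this
      obtain ⟨v, hv⟩ := hbu
      have hzD : f.1 ⟨z, Opens.mem_top z⟩ ∈ (algebraMap (X.presheaf.stalk z) (KStalk X z)).range := by
        refine ⟨X.presheaf.germ W₀ z (hWV hzW).2 a * (↑v⁻¹ : X.presheaf.stalk z), ?_⟩
        have e := hab ⟨z, (hWV hzW).2⟩
        rw [← hv] at e
        rw [map_mul, ← e, mul_assoc, ← map_mul, Units.mul_inv, map_one, mul_one]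
      erw [TopCat.Presheaf.germ_res_apply, TopCat.Presheaf.germ_res_apply]
      refine Eq.trans ?_ (map_zero _).symm
      have h0 := congrArg (X.presheaf.germ (V ⊓ ⟨_, hopen⟩) z ⟨(hWV hzW).1, hzD⟩) hr
      rw [map_zero] at h0
      erw [TopCat.Presheaf.germ_res_apply] at h0
      exact h0
    have := hW.isLocalization_basicOpen bW
    obtain ⟨⟨_, n, rfl⟩, hn⟩ := (IsLocalization.map_eq_zero_iff (Submonoid.powers bW) Γ(X, X.basicOpen bW) rW).mp hrb
    have hreg : bW ∈ nonZeroDivisors Γ(X, W) :=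
      regSub_eq_nonZeroDivisors W hW ▸ regSub_res _ b.2
    have hr0 : rW = 0 := (mem_nonZeroDivisors_iff_left.mp (pow_mem hreg n)) rW hn
    have := congrArg (X.presheaf.germ W x hxW) hr0
    rw [map_zero] at this
    simp only [rW, TopCat.Presheaf.germ_res_apply] at this
    exact this

section LinEquiv

variable {D D' : Divisor X}

theorem divCond_mul {x : X} {u : (KStalk X x)ˣ} (h : D.1 x = QuotientGroup.mk u * D'.1 x) {t : KStalk X x}
    (ht : DivCond D x t) : DivCond D' x (t * u) := fun g hg => by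
  rw [mul_assoc, ← Units.val_mul]
  exact ht _ (by rw [h, hg, QuotientGroup.mk_mul])

theorem kmod_smul_mul {V : X.Opens} (r : Γ(X, V)) (t s : Γ(kmod X, V)) : (r • t) * s = r • (t * s) :=
  Subtype.ext (funext fun _ => smul_mul_assoc _ _ _)

variable (D D') in
/-- Multiplication by a unit `u` with `D = div u * D'`. -/
def mulHom (u : (Γ(kmod X, ⊤))ˣ) (h : ∀ x : X, D.1 x = germOf u ⟨x, Opens.mem_top x⟩ * D'.1 x) :
    divMod D ⟶ divMod D' :=
  ⟨PresheafOfModules.homMk (M₁ := (divMod D).val) (M₂ := (divMod D').val)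
    { app := fun U => AddCommGrpCat.ofHom
        { toFun := fun (t : Γ(divMod D, U.unop)) =>
            (⟨fun y => t.1 y * (u : Γ(kmod X, ⊤)).1 ⟨y.1, Opens.mem_top y.1⟩,
              kLoc_mul X U.unop t.1 _ t.2.1
                ((kmod X).presheaf.map (homOfLE (le_top : U.unop ≤ ⊤)).op (u : Γ(kmod X, ⊤))).2,
              fun y => divCond_mul (h y.1) (t.2.2 y)⟩ : Γ(divMod D', U.unop))
          map_zero' := Subtype.ext (funext fun _ => zero_mul _)
          map_add' := fun _ _ => Subtype.ext (funext fun _ => add_mul _ _ _) }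
      naturality := by intros; rfl }
    (fun _ _ _ => Subtype.ext (funext fun _ => smul_mul_assoc _ _ _))⟩

theorem nonempty_iso_of_linEquiv (h : LinEquiv D D') : Nonempty (divMod D ≅ divMod D') := by
  obtain ⟨f, hf⟩ := h
  have h1 : ∀ x : X, D.1 x = germOf f ⟨x, Opens.mem_top x⟩ * D'.1 x := fun x => by
    have := congrFun (congrArg Subtype.val hf) x
    rw [← mul_inv_eq_iff_eq_mul]
    exact this
  have h2 : ∀ x : X, D'.1 x = germOf f⁻¹ ⟨x, Opens.mem_top x⟩ * D.1 x := fun x => by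
    rw [h1 x, germOf, map_inv, QuotientGroup.mk_inv, inv_mul_cancel_left]
  refine ⟨⟨mulHom D D' f h1, mulHom D' D f⁻¹ h2, ?_, ?_⟩⟩
  all_goals
    apply Scheme.Modules.hom_ext
    intro U
    ext t
    refine Subtype.ext (funext fun y => ?_)
  · change t.1 y * evalK X ⊤ ⟨y.1, Opens.mem_top y.1⟩ f * evalK X ⊤ ⟨y.1, Opens.mem_top y.1⟩ ↑f⁻¹ = t.1 y
    rw [mul_assoc, ← map_mul, Units.mul_inv, map_one, mul_one]
  · change t.1 y * evalK X ⊤ ⟨y.1, Opens.mem_top y.1⟩ ↑f⁻¹ * evalK X ⊤ ⟨y.1, Opens.mem_top y.1⟩ f = t.1 y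
    rw [mul_assoc, ← map_mul, Units.inv_mul, map_one, mul_one]

end LinEquiv

end Groth.Agent.MeroDivLead
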