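import Groth.Agent.MeroDivLead.DepthOne
import Groth.Agent.MeroDivLead.Easy

/-! Divisors on absolute curves. -/

universe u

open CategoryTheory AlgebraicGeometry TopologicalSpace Opposite

noncomputable section

namespace Groth.Agent.MeroDivLead

open Mero

variable {X : Scheme.{u}}

theorem finite_of_isClosed_of_points {T : Type*} [TopologicalSpace T] [NoetherianSpace T] [QuasiSober T] [T0Space T]
    (h : ∀ x : T, IsClosed ({x} : Set T)) : Finite T := by
  haveI := (NoetherianSpace.finite_irreducibleComponents (α := T)).to_subtype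
  refine Finite.of_injective (β := irreducibleComponents T) (fun x => ⟨{x}, isIrreducible_singleton, fun S hS hle => ?_⟩) ?_
  · intro y hy
    have hg := hS.isGenericPoint_genericPoint_closure
    have hh : ∀ z ∈ S, z = hS.genericPoint := fun z hz =>
      (hg.specializes (subset_closure hz)).mem_closed (h _) rfl
    exact (hh y hy).trans (hh x (hle rfl)).symm
  · intro x y hxy
    exact Set.singleton_eq_singleton_iff.1 (congrArg Subtype.val hxy)

theorem finite_closed_subset [IsNoetherian X] (Z : Set X) (hZ : IsClosed Z)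
    (h : ∀ z ∈ Z, IsClosed ({z} : Set X)) : Z.Finite := by
  haveI : QuasiSober Z := hZ.isClosedEmbedding_subtypeVal.quasiSober
  rw [← Set.finite_coe_iff]
  refine finite_of_isClosed_of_points fun z => ?_
  have : ({z} : Set Z) = Subtype.val ⁻¹' {z.1} := by ext w; simp [Subtype.ext_iff]
  rw [this]
  exact (h z.1 z.2).preimage continuous_subtype_val

theorem isUnit_of_nzd_of_not_closed [IsNoetherian X]
    (hC : ∀ x : X, IsClosed ({x} : Set X) → ringKrullDim (X.presheaf.stalk x) = 1)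
    {x : X} (hx : ¬ IsClosed ({x} : Set X)) {a : X.presheaf.stalk x}
    (ha : a ∈ nonZeroDivisors (X.presheaf.stalk x)) : IsUnit a := by
  obtain ⟨c, hc, hcc⟩ := (isClosed_closure (s := ({x} : Set X))).exists_closed_singleton ⟨x, subset_closure rfl⟩
  obtain ⟨_, ⟨U, hU, rfl⟩, hcU, -⟩ := X.isBasis_affineOpens.exists_subset_of_mem_open (Set.mem_univ c) isOpen_univ
  have hxc : x ⤳ c := specializes_iff_mem_closure.2 hc
  have hxU : x ∈ U := hxc.mem_open U.2 hcU
  let p := hU.primeIdealOf ⟨c, hcU⟩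
  let q := hU.primeIdealOf ⟨x, hxU⟩
  let := TopCat.Presheaf.algebra_section_stalk X.presheaf (⟨c, hcU⟩ : U)
  let := TopCat.Presheaf.algebra_section_stalk X.presheaf (⟨x, hxU⟩ : U)
  have hc' : IsLocalization.AtPrime (X.presheaf.stalk c) p.asIdeal := hU.isLocalization_stalk ⟨c, hcU⟩
  have hx' : IsLocalization.AtPrime (X.presheaf.stalk x) q.asIdeal := hU.isLocalization_stalk ⟨x, hxU⟩
  have : IsNoetherianRing Γ(X, U) := IsLocallyNoetherian.component_noetherian ⟨U, hU⟩
  have hlt : q < p := by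
    refine lt_of_le_of_ne ?_ fun e => hx ?_
    · refine (PrimeSpectrum.le_iff_specializes q p).mpr
        (hU.fromSpec.isOpenEmbedding.isInducing.specializes_iff.mp ?_)
      rw [hU.fromSpec_primeIdealOf, hU.fromSpec_primeIdealOf]
      exact hxc
    · have := congrArg hU.fromSpec e
      simp only [q, p, hU.fromSpec_primeIdealOf] at this
      exact this ▸ hcc
  have h1 : q.asIdeal.height < p.asIdeal.height := Ideal.height_strict_mono_of_isPrime_of_isPrime hlt
  have h2 := hC c hcc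
  rw [IsLocalization.AtPrime.ringKrullDim_eq_height p.asIdeal] at h2
  rw [show p.asIdeal.height = 1 from WithBot.coe_eq_one.1 h2, Order.lt_one_iff] at h1
  have : Ring.KrullDimLE 0 (X.presheaf.stalk x) := Ring.krullDimLE_iff.mpr (by
    rw [IsLocalization.AtPrime.ringKrullDim_eq_height q.asIdeal, h1]
    exact le_rfl)
  by_contra hn
  obtain ⟨n, hn'⟩ := (Ring.KrullDimLE.isNilpotent_iff_mem_nonunits.mpr hn : IsNilpotent a)
  exact one_ne_zero (mem_nonZeroDivisors_iff_right.mp (hn' ▸ pow_mem ha n : (0 : X.presheaf.stalk x) ∈ _) 1 (by simp))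

theorem closed_of_mem_supp [IsNoetherian X]
    (hC : ∀ x : X, IsClosed ({x} : Set X) → ringKrullDim (X.presheaf.stalk x) = 1)
    (D : Divisor X) {x : X} (hx : x ∈ supp D) : IsClosed ({x} : Set X) := by
  by_contra h
  exact hx (germ_eq_one_of_isUnit x (fun s => isUnit_of_nzd_of_not_closed hC h (regStalk_le_nonZeroDivisors x s.2)) _)

theorem isOpen_effective (D : Divisor X) : IsOpen {x | IsEffectiveAt D x} := by
  rw [isOpen_iff_forall_mem_open]
  intro x hx
  obtain ⟨U, hxU, m, b, hfr⟩ := exists_frac D x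
  obtain ⟨g, hg, hgb⟩ := hfr ⟨x, hxU⟩
  obtain ⟨t, ht⟩ := Ideal.mem_span_singleton'.mp (germ_mem_span_of_effectiveAt g hg hgb hx)
  obtain ⟨V, hxV, τ, rfl⟩ := X.presheaf.exists_germ_eq t
  have he : X.presheaf.germ (V ⊓ U.1) x ⟨hxV, hxU⟩
      (X.presheaf.map (homOfLE inf_le_left).op τ * X.presheaf.map (homOfLE inf_le_right).op b.1) =
      X.presheaf.germ (V ⊓ U.1) x ⟨hxV, hxU⟩ (X.presheaf.map (homOfLE inf_le_right).op m) := by
    rw [map_mul]
    simpa only [TopCat.Presheaf.germ_res_apply] using ht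
  obtain ⟨W, hxW, i, j, hW⟩ := X.presheaf.germ_eq x _ _ _ _ he
  refine ⟨W, fun z hz => ?_, W.2, hxW⟩
  refine effectiveAt_of_germ_mem_span hfr ⟨z, (i.le hz).2⟩
    (Ideal.mem_span_singleton'.mpr ⟨X.presheaf.germ V z (i.le hz).1 τ, ?_⟩)
  have := congrArg (X.presheaf.germ W z hz) hW
  simpa only [map_mul, TopCat.Presheaf.germ_res_apply] using this

theorem isClosed_supp (D : Divisor X) : IsClosed (supp D) := by
  rw [← isOpen_compl_iff]
  have : (supp D)ᶜ = {x | IsEffectiveAt D x} ∩ {x | IsEffectiveAt D⁻¹ x} := by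
    ext x
    simp only [supp, Set.mem_compl_iff, Set.mem_setOf_eq, not_not, Set.mem_inter_iff]
    exact ⟨fun h => ⟨effectiveAt_of_eq_one h, effectiveAt_of_eq_one (by simp [h])⟩, fun h => eq_one_of_effective h.1 h.2⟩
  rw [this]
  exact (isOpen_effective D).inter (isOpen_effective D⁻¹)

theorem finite_supp [IsNoetherian X]
    (hC : ∀ x : X, IsClosed ({x} : Set X) → ringKrullDim (X.presheaf.stalk x) = 1)
    (D : Divisor X) : (supp D).Finite :=
  finite_closed_subset _ (isClosed_supp D) fun _ hx => closed_of_mem_supp hC D hx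

theorem mem_divisorGroup_of_finite [IsNoetherian X]
    (hC : ∀ x : X, IsClosed ({x} : Set X) → ringKrullDim (X.presheaf.stalk x) = 1)
    (g : ∀ x : X, Germ X x) (hfin : {x : X | g x ≠ 1}.Finite) (hg : ∀ x : X, ¬ IsClosed ({x} : Set X) → g x = 1) :
    g ∈ divisorGroup X := by
  classical
  have hclosed : ∀ T ⊆ {x : X | g x ≠ 1}, IsClosed T := fun T hT => by
    rw [← Set.biUnion_of_singleton T]
    exact (hfin.subset hT).isClosed_biUnion fun z hz => by_contra fun h => hT hz (hg z h)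
  intro x
  let O₁ : X.Opens := ⟨_, (hclosed ({z | g z ≠ 1} \ {x}) Set.sdiff_subset).isOpen_compl⟩
  have hxO : x ∈ O₁ := fun h => h.2 rfl
  by_cases hx : g x = 1
  · refine ⟨O₁, hxO, 1, fun y => ?_⟩
    rw [germOf, map_one, QuotientGroup.mk_one]
    by_contra h
    exact y.2 ⟨h, fun e => h (by rw [show y.1 = x from e]; exact hx)⟩
  obtain ⟨u, hu⟩ := QuotientGroup.mk_surjective (g x)
  obtain ⟨⟨a₀, b₀⟩, hab⟩ := IsLocalization.surj (regStalk X x) (u : KStalk X x)
  obtain ⟨⟨c₀, d₀⟩, hcd⟩ := IsLocalization.surj (regStalk X x) ((u⁻¹ : (KStalk X x)ˣ) : KStalk X x)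
  obtain ⟨Va, hxa, a, rfl⟩ := X.presheaf.exists_germ_eq a₀
  obtain ⟨Vb, hxb, b, hb, hbe⟩ := b₀.2
  obtain ⟨Vc, hxc, c, rfl⟩ := X.presheaf.exists_germ_eq c₀
  obtain ⟨Vd, hxd, d, hd, hde⟩ := d₀.2
  let V : X.Opens := (Va ⊓ Vb) ⊓ (Vc ⊓ Vd)
  let A : Γ(X, V) := X.presheaf.map (homOfLE (inf_le_left.trans inf_le_left)).op a
  let B : regSub X V := ⟨_, regSub_res (homOfLE (inf_le_left.trans inf_le_right)) hb⟩
  let Cc : Γ(X, V) := X.presheaf.map (homOfLE (inf_le_right.trans inf_le_left)).op c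
  let Dd : regSub X V := ⟨_, regSub_res (homOfLE (inf_le_right.trans inf_le_right)) hd⟩
  have hxV : x ∈ V := ⟨⟨hxa, hxb⟩, hxc, hxd⟩
  have key : X.presheaf.germ V x hxV (A * Cc) = X.presheaf.germ V x hxV (B.1 * Dd.1) := by
    simp only [map_mul, A, B, Cc, Dd, TopCat.Presheaf.germ_res_apply]
    refine algebraMap_KStalk_injective x ?_
    rw [map_mul, map_mul, ← hab, ← hcd, hbe, hde]
    calc _ = ((u : KStalk X x) * ((u⁻¹ : (KStalk X x)ˣ) : KStalk X x)) * (algebraMap _ _ (b₀ : X.presheaf.stalk x) * algebraMap _ _ (d₀ : X.presheaf.stalk x)) := by ring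
      _ = _ := by rw [Units.mul_inv, one_mul]
  obtain ⟨W, hxW, i, j, hW⟩ := X.presheaf.germ_eq x _ _ _ _ key
  have hzero : ∀ z : W, X.presheaf.germ V z.1 (i.le z.2) A ∈ nonZeroDivisors _ := fun z => by
    have e := congrArg (X.presheaf.germ W z.1 z.2) hW
    simp only [TopCat.Presheaf.germ_res_apply, map_mul] at e
    exact (mul_mem_nonZeroDivisors.1 (e ▸ mul_mem (B.2 ⟨z.1, i.le z.2⟩) (Dd.2 ⟨z.1, i.le z.2⟩) :
      _ * X.presheaf.germ V z.1 (i.le z.2) Cc ∈ _)).1
  let G : X.Opens := X.basicOpen A ⊓ X.basicOpen B.1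
  have hbad : ∀ z ∈ closure ((W : Set X) \ G), z ∈ W → IsClosed ({z} : Set X) := by
    intro z hz hzW
    by_contra hzc
    have hzG : z ∈ G := ⟨(X.mem_basicOpen _ z (i.le hzW)).2 (isUnit_of_nzd_of_not_closed hC hzc (hzero ⟨z, hzW⟩)),
      (X.mem_basicOpen _ z (i.le hzW)).2 (isUnit_of_nzd_of_not_closed hC hzc (B.2 ⟨z, i.le hzW⟩))⟩
    obtain ⟨w, hw1, hw2⟩ := mem_closure_iff.1 hz G G.2 hzG
    exact hw2.2 hw1
  -- the non-unit locus inside a small neighbourhood is finite
  haveI : NoetherianSpace ((W : Set X)) := inferInstance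
  have hWfin : ((W : Set X) \ G).Finite := by
    haveI : QuasiSober W := (W.2.isOpenEmbedding_subtypeVal).quasiSober
    have hcl : IsClosed (Subtype.val ⁻¹' ((W : Set X) \ G) : Set W) := by
      have : (Subtype.val ⁻¹' ((W : Set X) \ G) : Set W) = (Subtype.val ⁻¹' (G : Set X))ᶜ := by
        ext w; exact ⟨fun h => h.2, fun h => ⟨w.2, h⟩⟩
      rw [this]
      exact (G.2.preimage continuous_subtype_val).isClosed_compl
    haveI : QuasiSober (Subtype.val ⁻¹' ((W : Set X) \ G) : Set W) := hcl.isClosedEmbedding_subtypeVal.quasiSober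
    haveI hn1 : NoetherianSpace W := NoetherianSpace.set (W : Set X)
    haveI : NoetherianSpace (Subtype.val ⁻¹' ((W : Set X) \ G) : Set W) := NoetherianSpace.set _
    have hF : Finite (Subtype.val ⁻¹' ((W : Set X) \ G) : Set W) := finite_of_isClosed_of_points fun z => by
      have e : ({z} : Set _) = (fun w : (Subtype.val ⁻¹' ((W : Set X) \ G) : Set W) => w.1.1) ⁻¹' {z.1.1} := by
        ext w; exact ⟨fun h => (by rw [Set.mem_singleton_iff] at h; subst h; rfl), fun h => Subtype.ext (Subtype.ext h)⟩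
      rw [e]
      exact (hbad z.1.1 (subset_closure z.2) z.1.2).preimage (continuous_subtype_val.comp continuous_subtype_val)
    have := (Set.finite_coe_iff.1 hF).image Subtype.val
    exact this.subset fun w hw => ⟨⟨w, hw.1⟩, hw, rfl⟩
  have hbclosed : IsClosed (((W : Set X) \ G) \ {x}) := by
    rw [← Set.biUnion_of_singleton (((W : Set X) \ G) \ {x})]
    exact (hWfin.subset Set.sdiff_subset).isClosed_biUnion fun z hz => hbad z (subset_closure hz.1) hz.1.1
  let U : X.Opens := W ⊓ O₁ ⊓ ⟨_, hbclosed.isOpen_compl⟩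
  have hUV : U ≤ V := (inf_le_left.trans inf_le_left).trans i.le
  have hxU : x ∈ U := ⟨⟨hxW, hxO⟩, fun h => h.2 rfl⟩
  let hA : X.presheaf.map (homOfLE hUV).op A ∈ regSub X U := fun z => by
    rw [TopCat.Presheaf.germ_res_apply]; exact hzero ⟨z.1, z.2.1.1⟩
  let BU : regSub X U := ⟨_, regSub_res (homOfLE hUV) B.2⟩
  let AU : regSub X U := ⟨_, hA⟩
  let F : Γ(kmod X, U) := ⟨fun z => Localization.mk (X.presheaf.germ U z.1 z.2 AU.1) (regGerm z BU),
    fun z => ⟨U, z.2, 𝟙 _, AU.1, BU, fun _ => rfl⟩⟩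
  let F' : Γ(kmod X, U) := ⟨fun z => Localization.mk (X.presheaf.germ U z.1 z.2 BU.1) (regGerm z AU),
    fun z => ⟨U, z.2, 𝟙 _, BU.1, AU, fun _ => rfl⟩⟩
  have hFF : F * F' = 1 := Subtype.ext (funext fun z => by
    change Localization.mk _ _ * Localization.mk _ _ = (1 : KStalk X z.1)
    rw [Localization.mk_mul]
    refine Eq.trans (congrArg (fun n => Localization.mk n _) ?_) (Localization.mk_self (regGerm z BU * regGerm z AU))
    rw [Submonoid.coe_mul]
    exact mul_comm _ _)
  refine ⟨U, hxU, ⟨F, F', hFF, by rw [mul_comm, hFF]⟩, fun y => ?_⟩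
  by_cases hyx : y.1 = x
  · obtain ⟨y, hy⟩ := y
    dsimp only at hyx
    subst hyx
    refine hu.symm.trans (congrArg QuotientGroup.mk (Units.ext ?_))
    change (u : KStalk X y) = Localization.mk (X.presheaf.germ U y hy AU.1) (regGerm ⟨y, hy⟩ BU)
    rw [Localization.mk_eq_mk', IsLocalization.eq_mk'_iff_mul_eq]
    simp only [AU, BU, A, B, TopCat.Presheaf.germ_res_apply]
    rw [hbe]
    exact hab
  · have h1 : g y.1 = 1 := by_contra fun h => y.2.1.2 ⟨h, hyx⟩
    have hyG : y.1 ∈ G := by_contra fun h => y.2.2 ⟨⟨y.2.1.1, h⟩, hyx⟩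
    rw [h1, germOf]
    symm
    rw [QuotientGroup.eq_one_iff, stalkUnits, MonoidHom.mem_range]
    have hua : IsUnit (X.presheaf.germ U y.1 y.2 AU.1) := by
      have := (X.mem_basicOpen A y.1 (hUV y.2)).1 hyG.1
      simpa only [AU, TopCat.Presheaf.germ_res_apply] using this
    have hub : IsUnit (X.presheaf.germ U y.1 y.2 BU.1) := by
      have := (X.mem_basicOpen B.1 y.1 (hUV y.2)).1 hyG.2
      simpa only [BU, TopCat.Presheaf.germ_res_apply] using this
    refine ⟨hua.unit * hub.unit⁻¹, Units.ext ?_⟩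
    change algebraMap _ (KStalk X y.1) ((hua.unit * hub.unit⁻¹ : (X.presheaf.stalk y.1)ˣ) : X.presheaf.stalk y.1) =
      Localization.mk (X.presheaf.germ U y.1 y.2 AU.1) (regGerm y BU)
    rw [Localization.mk_eq_mk', IsLocalization.eq_mk'_iff_mul_eq, ← map_mul]
    congr 1
    rw [Units.val_mul, IsUnit.unit_spec, mul_assoc]
    rw [show ((regGerm y BU : regStalk X y.1) : X.presheaf.stalk y.1) = (hub.unit : X.presheaf.stalk y.1) from (IsUnit.unit_spec hub).symm,
      Units.inv_mul, mul_one]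

/-- Divisors on a curve are the finitely supported families of germs at closed points. -/
theorem mem_divisorGroup_iff [IsNoetherian X]
    (hC : ∀ x : X, IsClosed ({x} : Set X) → ringKrullDim (X.presheaf.stalk x) = 1)
    (g : ∀ x : X, Germ X x) :
    g ∈ divisorGroup X ↔ ({x : X | g x ≠ 1}.Finite ∧ ∀ x : X, ¬ IsClosed ({x} : Set X) → g x = 1) :=
  ⟨fun h => ⟨finite_supp hC ⟨g, h⟩, fun x hx => by_contra fun hne => hx (closed_of_mem_supp hC ⟨g, h⟩ hne)⟩,
    fun h => mem_divisorGroup_of_finite hC g h.1 h.2⟩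

theorem exists_effective_sub [IsNoetherian X]
    (hC : ∀ x : X, IsClosed ({x} : Set X) → ringKrullDim (X.presheaf.stalk x) = 1) (D : Divisor X) :
    ∃ D₁ D₂ : Divisor X, IsEffective D₁ ∧ IsEffective D₂ ∧ D = D₁ * D₂⁻¹ ∧
      supp D₁ ⊆ supp D ∧ supp D₂ ⊆ supp D := by
  classical
  have rep : ∀ x : X, ∃ a b : regStalk X x,
      D.1 x = QuotientGroup.mk (IsLocalization.map_units (KStalk X x) a).unit /
        QuotientGroup.mk (IsLocalization.map_units (KStalk X x) b).unit := by
    intro x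
    obtain ⟨U, hxU, m, b, hfr⟩ := exists_frac D x
    obtain ⟨u, hu, hub⟩ := hfr ⟨x, hxU⟩
    obtain ⟨⟨c, d⟩, hcd⟩ := IsLocalization.surj (regStalk X x) ((u⁻¹ : (KStalk X x)ˣ) : KStalk X x)
    -- numerator times the inverse numerator is a product of denominators
    have hmc : X.presheaf.germ U.1 x hxU m * c =
        X.presheaf.germ U.1 x hxU b.1 * (d : X.presheaf.stalk x) := by
      apply algebraMap_KStalk_injective x
      rw [map_mul, map_mul, ← hub, ← hcd]
      calc _ = ((u : KStalk X x) * ((u⁻¹ : (KStalk X x)ˣ) : KStalk X x)) * (algebraMap _ _ (X.presheaf.germ U.1 x hxU b.1) * algebraMap _ _ (d : X.presheaf.stalk x)) := by ring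
        _ = _ := by rw [Units.mul_inv, one_mul]
    obtain ⟨Vc, hxc, cs, rfl⟩ := X.presheaf.exists_germ_eq c
    obtain ⟨Vd, hxd, ds, hds, hde⟩ := d.2
    let V : X.Opens := U.1 ⊓ (Vc ⊓ Vd)
    have key : X.presheaf.germ V x ⟨hxU, hxc, hxd⟩
        (X.presheaf.map (homOfLE inf_le_left).op m * X.presheaf.map (homOfLE (inf_le_right.trans inf_le_left)).op cs) =
        X.presheaf.germ V x ⟨hxU, hxc, hxd⟩
        (X.presheaf.map (homOfLE inf_le_left).op b.1 * X.presheaf.map (homOfLE (inf_le_right.trans inf_le_right)).op ds) := by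
      simp only [map_mul, TopCat.Presheaf.germ_res_apply]
      rw [hde]; exact hmc
    obtain ⟨W, hxW, i, j, hW⟩ := X.presheaf.germ_eq x _ _ _ _ key
    have hm : X.presheaf.map (homOfLE (i.le.trans inf_le_left)).op m ∈ regSub X W := fun z => by
      rw [TopCat.Presheaf.germ_res_apply]
      have e := congrArg (X.presheaf.germ W z.1 z.2) hW
      simp only [map_mul, TopCat.Presheaf.germ_res_apply] at e
      exact (mul_mem_nonZeroDivisors.1 (e ▸ mul_mem (b.2 ⟨z.1, (i.le z.2).1⟩) (hds ⟨z.1, (i.le z.2).2.2⟩) :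
        _ * X.presheaf.germ Vc z.1 (i.le z.2).2.1 cs ∈ _)).1
    refine ⟨regGerm ⟨x, hxW⟩ ⟨_, hm⟩, regGerm ⟨x, hxU⟩ b, ?_⟩
    rw [hu, ← QuotientGroup.mk_div]
    refine congrArg QuotientGroup.mk (eq_div_iff_mul_eq'.2 (Units.ext ?_))
    rw [Units.val_mul, IsUnit.unit_spec, IsUnit.unit_spec]
    simpa only [TopCat.Presheaf.germ_res_apply] using hub
  choose a b hab using rep
  let g₁ : ∀ x : X, Germ X x := fun x => if D.1 x = 1 then 1 else QuotientGroup.mk (IsLocalization.map_units (KStalk X x) (a x)).unit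
  let g₂ : ∀ x : X, Germ X x := fun x => if D.1 x = 1 then 1 else QuotientGroup.mk (IsLocalization.map_units (KStalk X x) (b x)).unit
  have h₁ : g₁ ∈ divisorGroup X := mem_divisorGroup_of_finite hC g₁
    ((finite_supp hC D).subset fun x hx h => hx (if_pos h))
    fun x hx => if_pos (by_contra fun h => hx (closed_of_mem_supp hC D h))
  have h₂ : g₂ ∈ divisorGroup X := mem_divisorGroup_of_finite hC g₂
    ((finite_supp hC D).subset fun x hx h => hx (if_pos h))
    fun x hx => if_pos (by_contra fun h => hx (closed_of_mem_supp hC D h))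
  refine ⟨⟨g₁, h₁⟩, ⟨g₂, h₂⟩, fun x => ?_, fun x => ?_, Subtype.ext (funext fun x => ?_),
    fun x hx h => hx (if_pos h), fun x hx h => hx (if_pos h)⟩
  · by_cases h : D.1 x = 1
    · exact effectiveAt_of_eq_one (if_pos h)
    · exact ⟨a x, if_neg h⟩
  · by_cases h : D.1 x = 1
    · exact effectiveAt_of_eq_one (if_pos h)
    · exact ⟨b x, if_neg h⟩
  · change D.1 x = g₁ x * (g₂ x)⁻¹
    by_cases h : D.1 x = 1
    · have e : g₂ x = g₁ x := (if_pos h : g₂ x = 1).trans (if_pos h : g₁ x = 1).symm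
      rw [h, e]
      exact (mul_inv_cancel _).symm
    · rw [show g₁ x = _ from if_neg h, show g₂ x = _ from if_neg h, ← div_eq_mul_inv]
      exact hab x

end Groth.Agent.MeroDivLead
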