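import Groth.Agent.MeroDivLead.OfSection
import Groth.Agent.MeroDivLead.Easy

/-! The ideal of denominators of a regular meromorphic section. -/

universe u

open CategoryTheory AlgebraicGeometry TopologicalSpace Opposite

noncomputable section

namespace Groth.Agent.MeroDivLead

open Mero Groth.Agent.GenLocus Groth.Agent.QCohBase

variable {X : Scheme.{u}} {L : X.Modules}

theorem toM_injective (hL : PicF.IsInvertible L) (y : X) : Function.Injective (toM L y) := by
  obtain ⟨U, -, hy, -, e, he⟩ := exists_isFrame hL (W := (⊤ : X.Opens)) (x := y) trivial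
  intro l l' h
  obtain ⟨a, rfl⟩ := MeroFrac.exists_germ_eq_smul he hy l
  obtain ⟨a', rfl⟩ := MeroFrac.exists_germ_eq_smul he hy l'
  rw [← k_smul_toM, ← k_smul_toM] at h
  rw [algebraMap_KStalk_injective y (coeff_unique he hy h)]

/-- the denominator condition at one point -/
def DenomAt (L : X.Modules) (s : Γ(merMod L, ⊤)) (y : X) (r : X.presheaf.stalk y) : Prop :=
  ∃ l : L.presheaf.stalk y, algebraMap _ (KStalk X y) r • sAt s y = toM L y l

variable (hL : PicF.IsInvertible L) (s : Γ(merMod L, ⊤)) (hs : IsRegularMero L s)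

include hL in
theorem mem_denomIdeal_iff (U : X.Opens) (r : Γ(X, U)) :
    r ∈ denomIdeal L s U ↔ ∀ y : U, DenomAt L s y.1 (X.presheaf.germ U y.1 y.2 r) := by
  refine ⟨fun ⟨m, hm⟩ y => ⟨L.presheaf.germ U y.1 y.2 m, (algebraMap_smul _ _ _).trans (hm y)⟩, fun h => ?_⟩
  choose l hl using h
  have loc : ∀ y : U, ∃ (W : X.Opens) (_ : y.1 ∈ W) (hW : W ≤ U) (m : Γ(L, W)),
      ∀ z : W, L.presheaf.germ W z.1 z.2 m = l ⟨z.1, hW z.2⟩ := by
    intro y
    obtain ⟨A, hyA, τ, hτ⟩ := L.presheaf.exists_germ_eq (l y)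
    obtain ⟨V, hyV, i, a, b, hab⟩ := s.2 ⟨y.1, Opens.mem_top y.1⟩
    let T : X.Opens := (A ⊓ V) ⊓ U
    have hyT : y.1 ∈ T := ⟨⟨hyA, hyV⟩, y.2⟩
    have cond : ∀ (z : X) (hz : z ∈ T) (v : L.presheaf.stalk z),
        algebraMap _ (KStalk X z) (X.presheaf.germ U z hz.2 r) • sAt s z = toM L z v ↔
        X.presheaf.germ U z hz.2 r • L.presheaf.germ V z hz.1.2 a = X.presheaf.germ V z hz.1.2 b.1 • v := by
      intro z hz v
      have e := hab ⟨z, hz.1.2⟩
      dsimp only at e
      rw [algebraMap_smul, show sAt s z = _ from e, LocalizedModule.smul'_mk, toM, LocalizedModule.mk_eq]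
      constructor
      · rintro ⟨w, hw⟩
        simp only [one_smul, Submonoid.smul_def] at hw
        obtain ⟨U', -, hzU', -, e', he'⟩ := exists_isFrame hL (W := (⊤ : X.Opens)) (x := z) trivial
        obtain ⟨c₁, hc₁⟩ := MeroFrac.exists_germ_eq_smul he' hzU' (X.presheaf.germ U z hz.2 r • L.presheaf.germ V z hz.1.2 a)
        obtain ⟨c₂, hc₂⟩ := MeroFrac.exists_germ_eq_smul he' hzU' (X.presheaf.germ V z hz.1.2 b.1 • v)
        erw [hc₁, hc₂, smul_smul, smul_smul] at hw
        rw [← sub_eq_zero, ← sub_smul, ← mul_sub] at hw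
        have h0 := MeroFrac.smul_germ_frame_eq_zero he' hzU' _ hw
        rw [mul_comm] at h0
        have h1 : c₁ - c₂ = 0 := mem_nonZeroDivisors_iff_right.mp (regStalk_le_nonZeroDivisors z w.2) _ h0
        rw [hc₁, hc₂, sub_eq_zero.mp h1]
      · intro h
        exact ⟨1, by simp only [one_smul, Submonoid.smul_def]; exact h⟩
    have e0 := (cond y.1 hyT (l y)).1 (hl y)
    rw [← hτ] at e0
    have he : L.presheaf.germ T y.1 hyT (X.presheaf.map (homOfLE (inf_le_right : T ≤ U)).op r •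
          mres L (inf_le_left.trans inf_le_right : T ≤ V) a) =
        L.presheaf.germ T y.1 hyT (X.presheaf.map (homOfLE (inf_le_left.trans inf_le_right : T ≤ V)).op b.1 •
          mres L (inf_le_left.trans inf_le_left : T ≤ A) τ) := by
      rw [germ_smul, germ_smul]
      erw [TopCat.Presheaf.germ_res_apply, TopCat.Presheaf.germ_res_apply, TopCat.Presheaf.germ_res_apply,
        TopCat.Presheaf.germ_res_apply]
      exact e0
    obtain ⟨W, hyW, j, j', hW⟩ := L.presheaf.germ_eq y.1 _ _ _ _ he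
    refine ⟨W, hyW, j.le.trans inf_le_right, mres L (j.le.trans (inf_le_left.trans inf_le_left)) τ, fun z => ?_⟩
    refine toM_injective hL z.1 ((((cond z.1 (j.le z.2) _).2 ?_).symm).trans (hl ⟨z.1, (j.le z.2).2⟩))
    have e1 := congrArg (L.presheaf.germ W z.1 z.2) hW
    erw [TopCat.Presheaf.germ_res_apply, TopCat.Presheaf.germ_res_apply] at e1
    rw [germ_smul, germ_smul] at e1
    erw [TopCat.Presheaf.germ_res_apply, TopCat.Presheaf.germ_res_apply, TopCat.Presheaf.germ_res_apply,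
      TopCat.Presheaf.germ_res_apply] at e1
    erw [TopCat.Presheaf.germ_res_apply]
    exact e1
  choose W hyW hWU m hm using loc
  let F : TopCat.Sheaf AddCommGrpCat X.toTopCat := ⟨L.presheaf, L.isSheaf⟩
  obtain ⟨g, hg, -⟩ := F.existsUnique_gluing' W U (fun y => homOfLE (hWU y))
    (fun z hz => Opens.mem_iSup.mpr ⟨⟨z, hz⟩, hyW ⟨z, hz⟩⟩) m
    (fun y y' => by
      refine TopCat.Presheaf.section_ext F _ _ _ fun z hz => ?_
      erw [TopCat.Presheaf.germ_res_apply, TopCat.Presheaf.germ_res_apply]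
      exact (hm y ⟨z, hz.1⟩).trans (hm y' ⟨z, hz.2⟩).symm)
  refine ⟨g, fun y => (algebraMap_smul _ _ _).symm.trans ((hl y).trans (congrArg (toM L y.1) ?_))⟩
  rw [← hm y ⟨y.1, hyW y⟩, ← hg y]
  exact TopCat.Presheaf.germ_res_apply L.presheaf (homOfLE (hWU y)) y.1 (hyW y) g

include hL in
theorem exists_num_den (x : X) : ∃ (W : X.Opens) (_ : x ∈ W) (a : Γ(X, W)) (b : regSub X W),
    IsAffineOpen W ∧ ∀ (z : W) (r : X.presheaf.stalk z.1),
      DenomAt L s z.1 r ↔ X.presheaf.germ W z.1 z.2 b.1 ∣ r * X.presheaf.germ W z.1 z.2 a := by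
  obtain ⟨V, hxV, i, m, b, hm⟩ := s.2 ⟨x, Opens.mem_top x⟩
  obtain ⟨W, hW, hxW, hWV, e, he⟩ := exists_isFrame hL (x := x) hxV
  obtain ⟨a, ha⟩ := he.bijective.2 (mres L hWV m)
  refine ⟨W, hxW, a, ⟨_, regSub_res (homOfLE hWV) b.2⟩, hW, fun z r => ?_⟩
  have e1 := hm ⟨z.1, hWV z.2⟩
  dsimp only at e1
  have hsz : sAt s z.1 = (Localization.mk (X.presheaf.germ W z.1 z.2 a)
      (regGerm z ⟨_, regSub_res (homOfLE hWV) b.2⟩) : KStalk X z.1) • toM L z.1 (L.presheaf.germ W z.1 z.2 e) := by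
    refine Eq.trans e1 ?_
    change _ = _ • LocalizedModule.mk _ 1
    rw [LocalizedModule.mk_smul_mk, mul_one]
    refine mk_congr ?_ (TopCat.Presheaf.germ_res_apply X.presheaf _ z.1 z.2 b.1).symm
    have e2 := congrArg (L.presheaf.germ W z.1 z.2) ha
    erw [TopCat.Presheaf.germ_res_apply] at e2
    rw [← e2, germ_smul]
  constructor
  · rintro ⟨l, hl⟩
    obtain ⟨c, rfl⟩ := MeroFrac.exists_germ_eq_smul he z.2 l
    rw [hsz, smul_smul, ← k_smul_toM] at hl
    have h := coeff_unique he z.2 hl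
    rw [Localization.mk_eq_mk', IsLocalization.mul_mk'_eq_mk'_of_mul, IsLocalization.mk'_eq_iff_eq_mul,
      ← map_mul] at h
    exact ⟨c, (algebraMap_KStalk_injective z.1 h).trans (mul_comm _ _)⟩
  · rintro ⟨c, hc⟩
    refine ⟨c • L.presheaf.germ W z.1 z.2 e, ?_⟩
    rw [hsz, smul_smul, ← k_smul_toM]
    congr 1
    rw [Localization.mk_eq_mk', IsLocalization.mul_mk'_eq_mk'_of_mul, IsLocalization.mk'_eq_iff_eq_mul,
      ← map_mul, hc, mul_comm c]

include hL in
theorem exists_denom_sheaf : ∃ I : X.IdealSheafData, ∀ U : X.affineOpens, I.ideal U = denomIdeal L s U.1 := by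
  refine ⟨{ ideal := fun U => denomIdeal L s U.1, map_ideal_basicOpen := fun U h => ?_ }, fun U => rfl⟩
  apply le_antisymm
  · rw [Ideal.map_le_iff_le_comap]
    intro r hr
    rw [Ideal.mem_comap]
    refine (mem_denomIdeal_iff hL s (X.basicOpen h) _).2 fun y => ?_
    erw [TopCat.Presheaf.germ_res_apply]
    exact (mem_denomIdeal_iff hL s U.1 r).1 hr ⟨y.1, X.basicOpen_le h y.2⟩
  · intro r hr
    have := U.2.isLocalization_basicOpen h
    obtain ⟨⟨r₀, ⟨_, n, rfl⟩⟩, hr₀⟩ := IsLocalization.surj (Submonoid.powers h) r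
    have loc : ∀ x : U.1, ∃ (A : X.Opens) (_ : x.1 ∈ A) (hA : A ≤ U.1) (N : ℕ), ∀ z : A,
        DenomAt L s z.1 (X.presheaf.germ U.1 z.1 (hA z.2) (h ^ N * r₀)) := by
      intro x
      obtain ⟨W, hxW, a, b, -, hW⟩ := exists_num_den hL s x.1
      obtain ⟨_, ⟨A, hA, rfl⟩, hxA, hAW⟩ := X.isBasis_affineOpens.exists_subset_of_mem_open
        (show x.1 ∈ W ⊓ U.1 from ⟨hxW, x.2⟩) (W ⊓ U.1).2
      let hA' : Γ(X, A) := X.presheaf.map (homOfLE (fun z hz => (hAW hz).2 : A ≤ U.1)).op h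
      let bA : Γ(X, A) := X.presheaf.map (homOfLE (fun z hz => (hAW hz).1 : A ≤ W)).op b.1
      let pA : Γ(X, A) := X.presheaf.map (homOfLE (fun z hz => (hAW hz).2 : A ≤ U.1)).op r₀ *
        X.presheaf.map (homOfLE (fun z hz => (hAW hz).1 : A ≤ W)).op a
      let B := X.basicOpen hA'
      have hBU : B ≤ X.basicOpen h := fun z hz => by
        have hzA : z ∈ A := X.basicOpen_le hA' hz
        rw [X.mem_basicOpen h z (hAW hzA).2]
        have := (X.mem_basicOpen hA' z hzA).1 hz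
        simpa only [hA', TopCat.Presheaf.germ_res_apply] using this
      have hBA : B ≤ A := X.basicOpen_le hA'
      have hdvd : ∀ z : B, X.presheaf.germ A z.1 (hBA z.2) bA ∣ X.presheaf.germ A z.1 (hBA z.2) pA := by
        intro z
        have hzh : z.1 ∈ X.basicOpen h := hBU z.2
        have h1 := (mem_denomIdeal_iff hL s (X.basicOpen h) r).1 hr ⟨z.1, hzh⟩
        rw [hW ⟨z.1, (hAW (hBA z.2)).1⟩] at h1
        have e0 := congrArg (X.presheaf.germ (X.basicOpen h) z.1 hzh) hr₀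
        rw [map_mul] at e0
        erw [TopCat.Presheaf.germ_res_apply, TopCat.Presheaf.germ_res_apply] at e0
        simp only [bA, pA, map_mul, TopCat.Presheaf.germ_res_apply]
        rw [← e0]
        exact h1.trans (mul_dvd_mul_right (dvd_mul_right _ _) _)
      choose c hc using hdvd
      have hcs : ∃ τ : Γ(X, B), ∀ z : B, X.presheaf.germ B z.1 z.2 τ = c z := by
        have loc2 : ∀ z : B, ∃ (T : X.Opens) (_ : z.1 ∈ T) (hT : T ≤ B) (τ : Γ(X, T)),
            ∀ w : T, X.presheaf.germ T w.1 w.2 τ = c ⟨w.1, hT w.2⟩ := by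
          intro z
          obtain ⟨T₀, hzT, τ, hτ⟩ := X.presheaf.exists_germ_eq (c z)
          have he : X.presheaf.germ (T₀ ⊓ B) z.1 ⟨hzT, z.2⟩ (X.presheaf.map (homOfLE (inf_le_right.trans hBA)).op pA) =
              X.presheaf.germ (T₀ ⊓ B) z.1 ⟨hzT, z.2⟩
                (X.presheaf.map (homOfLE (inf_le_right.trans hBA)).op bA * X.presheaf.map (homOfLE inf_le_left).op τ) := by
            have := hc z
            simp only [pA, bA, map_mul, TopCat.Presheaf.germ_res_apply] at this ⊢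
            rw [hτ]
            exact this
          obtain ⟨T, hzT', j, j', hT⟩ := X.presheaf.germ_eq z.1 _ _ _ _ he
          refine ⟨T, hzT', j.le.trans inf_le_right, X.presheaf.map (homOfLE (j.le.trans inf_le_left)).op τ, fun w => ?_⟩
          have e := congrArg (X.presheaf.germ T w.1 w.2) hT
          simp only [map_mul, TopCat.Presheaf.germ_res_apply] at e
          rw [hc ⟨w.1, (j.le w.2).2⟩] at e
          rw [TopCat.Presheaf.germ_res_apply]
          have hb0 : X.presheaf.germ A w.1 (hBA (j.le w.2).2) bA ∈ nonZeroDivisors _ :=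
            regSub_res (homOfLE (fun z hz => (hAW hz).1 : A ≤ W)) b.2 ⟨w.1, hBA (j.le w.2).2⟩
          exact ((mul_cancel_left_mem_nonZeroDivisors hb0).1 e).symm
        choose T hzT hTB τ hτ using loc2
        obtain ⟨g, hg, -⟩ := X.sheaf.existsUnique_gluing' T B (fun z => homOfLE (hTB z))
          (fun z hz => Opens.mem_iSup.mpr ⟨⟨z, hz⟩, hzT ⟨z, hz⟩⟩) τ
          (fun y y' => by
            refine TopCat.Presheaf.section_ext X.sheaf _ _ _ fun z hz => ?_
            erw [TopCat.Presheaf.germ_res_apply, TopCat.Presheaf.germ_res_apply]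
            exact (hτ y ⟨z, hz.1⟩).trans (hτ y' ⟨z, hz.2⟩).symm)
        refine ⟨g, fun z => ?_⟩
        rw [← hτ z ⟨z.1, hzT z⟩, ← hg z]
        exact (TopCat.Presheaf.germ_res_apply X.presheaf (homOfLE (hTB z)) z.1 (hzT z) g).symm
      obtain ⟨τ, hτ⟩ := hcs
      have := hA.isLocalization_basicOpen hA'
      obtain ⟨⟨t, ⟨_, k, rfl⟩⟩, ht⟩ := IsLocalization.surj (Submonoid.powers hA') τ
      have hz : algebraMap Γ(X, A) Γ(X, B) (hA' ^ k * pA - bA * t) = 0 := by
        rw [map_sub, map_mul _ bA t, ← ht, map_mul _ (hA' ^ k) pA, sub_eq_zero]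
        refine TopCat.Presheaf.section_ext X.sheaf _ _ _ fun z hz => ?_
        change X.presheaf.germ B z hz _ = X.presheaf.germ B z hz _
        have key : ∀ q : Γ(X, A), X.presheaf.germ B z hz (algebraMap Γ(X, A) Γ(X, B) q) = X.presheaf.germ A z (hBA hz) q :=
          fun q => TopCat.Presheaf.germ_res_apply X.presheaf (homOfLE hBA) z hz q
        simp only [map_mul, key]
        erw [hτ ⟨z, hz⟩]
        have e := hc ⟨z, hz⟩
        linear_combination (X.presheaf.germ A z (hBA hz) (hA' ^ k)) * e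
      obtain ⟨⟨_, l, rfl⟩, hl⟩ := (IsLocalization.map_eq_zero_iff (Submonoid.powers hA') Γ(X, B) _).1 hz
      refine ⟨A, hxA, fun z hz => (hAW hz).2, l + k, fun z => (hW ⟨z.1, (hAW z.2).1⟩ _).2 ?_⟩
      have e := congrArg (X.presheaf.germ A z.1 z.2) hl
      simp only [map_mul, map_sub, map_pow, map_zero, hA', bA, pA, TopCat.Presheaf.germ_res_apply] at e
      refine ⟨(X.presheaf.germ U.1 z.1 (hAW z.2).2 h) ^ l * X.presheaf.germ A z.1 z.2 t, ?_⟩
      rw [map_mul, map_pow]
      linear_combination e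
    choose A hxA hAU N hN using loc
    obtain ⟨t, ht⟩ := U.2.isCompact.elim_finite_subcover (fun x : U.1 => (A x : Set X)) (fun x => (A x).2)
      (fun x hx => Set.mem_iUnion.2 ⟨⟨x, hx⟩, hxA _⟩)
    let M := t.sup N
    have hmem : h ^ M * r₀ ∈ denomIdeal L s U.1 := by
      rw [mem_denomIdeal_iff hL]
      intro y
      obtain ⟨x, hxt, hyx⟩ := Set.mem_iUnion₂.1 (ht y.2)
      obtain ⟨l, hl⟩ := hN x ⟨y.1, hyx⟩
      refine ⟨X.presheaf.germ U.1 y.1 y.2 (h ^ (M - N x)) • l, ?_⟩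
      rw [← k_smul_toM, ← hl, smul_smul, ← map_mul, ← map_mul, ← mul_assoc, ← pow_add,
        Nat.sub_add_cancel (Finset.le_sup hxt)]
    have h2 : algebraMap Γ(X, U.1) Γ(X, X.basicOpen h) (h ^ M * r₀) ∈
        (denomIdeal L s U.1).map (X.presheaf.map (homOfLE <| X.basicOpen_le h).op).hom := Ideal.mem_map_of_mem _ hmem
    rw [map_mul, ← hr₀, map_pow, mul_left_comm, mul_comm r] at h2
    have hu : IsUnit (algebraMap Γ(X, U.1) Γ(X, X.basicOpen h) h) :=
      IsLocalization.map_units _ (⟨h, 1, pow_one h⟩ : Submonoid.powers h)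
    refine (Ideal.unit_mul_mem_iff_mem _ ?_).1 h2
    exact ((hu.pow M)).mul ((map_pow (algebraMap Γ(X, U.1) Γ(X, X.basicOpen h)) h n).symm ▸ hu.pow n)

include hL in
theorem interior_support_denom (I : X.IdealSheafData) (hI : ∀ U : X.affineOpens, I.ideal U = denomIdeal L s U.1) :
    interior (I.support : Set X) = ∅ := by
  by_contra hne
  obtain ⟨x, hx⟩ := Set.nonempty_iff_ne_empty.2 hne
  obtain ⟨W, hxW, a, b, hW, hden⟩ := exists_num_den hL s x
  have hb : b.1 ∈ I.ideal ⟨W, hW⟩ := by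
    rw [hI]
    exact (mem_denomIdeal_iff hL s W b.1).2 fun z => (hden z _).2 (dvd_mul_right _ _)
  let V : X.Opens := ⟨interior (I.support : Set X), isOpen_interior⟩ ⊓ W
  obtain ⟨_, ⟨A, hA, rfl⟩, hxA, hAV⟩ := X.isBasis_affineOpens.exists_subset_of_mem_open
    (show x ∈ V from ⟨hx, hxW⟩) V.2
  let bA : Γ(X, A) := X.presheaf.map (homOfLE (fun z hz => (hAV hz).2 : A ≤ W)).op b.1
  have hbot : X.basicOpen bA = ⊥ := by
    rw [eq_bot_iff]
    intro z hz
    have hzA : z ∈ A := X.basicOpen_le bA hz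
    have h1 := (Scheme.IdealSheafData.mem_support_iff_of_mem (U := (⟨W, hW⟩ : X.affineOpens)) (hAV hzA).2).1
      (interior_subset (hAV hzA).1)
    rw [Scheme.mem_zeroLocus_iff] at h1
    refine (h1 b.1 hb ?_).elim
    rw [X.mem_basicOpen b.1 z (hAV hzA).2]
    have := (X.mem_basicOpen bA z hzA).1 hz
    simpa only [bA, TopCat.Presheaf.germ_res_apply] using this
  obtain ⟨n, hn⟩ := (Scheme.isNilpotent_iff_basicOpen_eq_bot_of_isCompact hA.isCompact bA).2 hbot
  have h0 := (regSub_res (homOfLE (fun z hz => (hAV hz).2 : A ≤ W)) b.2) ⟨x, hxA⟩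
  have h1 := pow_mem h0 n
  rw [← map_pow, hn, map_zero] at h1
  exact one_ne_zero (mem_nonZeroDivisors_iff_right.mp h1 1 (by simp))

end Groth.Agent.MeroDivLead
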