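import Groth.Prelude.Def_MeroDiv
import Groth.Agent.Depth.Basic
import Mathlib.AlgebraicGeometry.Noetherian
import Mathlib.RingTheory.Ideal.AssociatedPrime.Localization
import Mathlib.RingTheory.Ideal.Height
import Mathlib.RingTheory.Ideal.KrullsHeightTheorem

/-! Divisors on locally Noetherian schemes are controlled at points of depth one. -/

universe u

open CategoryTheory AlgebraicGeometry TopologicalSpace IsLocalRing
open scoped Pointwise

noncomputable section

namespace Groth.Agent.MeroDivLead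

open Mero

variable {X : Scheme.{u}}

/-- If the depth is not one and an element is killed modulo a regular `b` at every non-maximal prime,
it is a multiple of `b`. -/
theorem mem_span_of_depth_ne_one {A : Type u} [CommRing A] [IsLocalRing A] [IsNoetherianRing A]
    {b c : A} (hb : b ∈ nonZeroDivisors A) (hd : LocCoh.depth A A ≠ 1)
    (h : ∀ q : Ideal A, q.IsPrime → q ≠ maximalIdeal A → ∃ s ∉ q, s * c ∈ Ideal.span {b}) :
    c ∈ Ideal.span {b} := by
  by_contra hc
  have hbm : b ∈ maximalIdeal A := by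
    by_contra hbm
    exact hc ((Ideal.span_singleton_eq_top.mpr (notMem_maximalIdeal.mp hbm)).symm ▸ Submodule.mem_top)
  let M := A ⧸ Ideal.span {b}
  let N : Submodule A M := Submodule.span A {Submodule.Quotient.mk c}
  have hann : ∀ r : A, r ∈ Module.annihilator A N ↔ r * c ∈ Ideal.span {b} := by
    intro r
    rw [show Module.annihilator A N = N.annihilator from rfl, Submodule.mem_annihilator_span_singleton,
      ← Submodule.Quotient.mk_smul, Submodule.Quotient.mk_eq_zero, smul_eq_mul]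
  have hne : Module.annihilator A N ≠ ⊤ := fun e =>
    hc (by simpa using (hann 1).mp (e ▸ Submodule.mem_top))
  obtain ⟨q, hq, -⟩ := Ideal.exists_minimalPrimes_le (le_maximalIdeal hne)
  have hass := Module.associatedPrimes.minimalPrimes_annihilator_subset_associatedPrimes A N hq
  have hass' : IsAssociatedPrime q M := IsAssociatedPrime.map_of_injective N.subtype hass N.injective_subtype
  rcases eq_or_ne q (maximalIdeal A) with rfl | hqm
  · apply hd
    have hreg : IsSMulRegular A b := fun x y hxy => mul_cancel_left_mem_nonZeroDivisors hb |>.mp hxy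
    have h1 := Depth.idealDepth_quotSMulTop_add_one (I := maximalIdeal A) A hbm hreg
    have hsub : b • (⊤ : Submodule A A) = Ideal.span {b} := by
      rw [← Submodule.ideal_span_singleton_smul, Ideal.smul_eq_mul, Ideal.mul_top]
    have hass2 : maximalIdeal A ∈ associatedPrimes A (QuotSMulTop b A) :=
      IsAssociatedPrime.map_of_injective (Submodule.quotEquivOfEq _ _ hsub.symm).toLinearMap hass'
        (LinearEquiv.injective _)
    have hnt : Nontrivial (QuotSMulTop b A) := by
      have : Nontrivial M := Ideal.Quotient.nontrivial_iff.mpr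
        (ne_top_of_le_ne_top (maximalIdeal.isMaximal A).ne_top
          ((Submodule.span_singleton_le_iff_mem _ _).mpr hbm))
      exact (Submodule.quotEquivOfEq _ _ hsub.symm).toEquiv.nontrivial_congr.mp this
    have h0 : LocCoh.depth A (QuotSMulTop b A) = 0 := Depth.depth_eq_zero_iff.mpr hass2
    rw [LocCoh.depth] at h0 ⊢
    rw [← h1, h0, zero_add]
  · obtain ⟨s, hs, hsc⟩ := h q hq.1.1 hqm
    exact hs (hq.1.2 ((hann s).mpr hsc))

/-- A divisor is near every point given by a fraction of sections over an affine open. -/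
theorem exists_frac (D : Divisor X) (x : X) :
    ∃ (U : X.affineOpens) (_ : x ∈ U.1) (m : Γ(X, U.1)) (b : regSub X U.1),
      ∀ y : U.1, ∃ g : (KStalk X y.1)ˣ, D.1 y.1 = QuotientGroup.mk g ∧
        (g : KStalk X y.1) * algebraMap (X.presheaf.stalk y.1) _ (X.presheaf.germ U.1 y.1 y.2 b.1) =
          algebraMap (X.presheaf.stalk y.1) _ (X.presheaf.germ U.1 y.1 y.2 m) := by
  obtain ⟨V, hxV, f, hf⟩ := D.2 x
  obtain ⟨W, hxW, i, a, b, hab⟩ := f.1.2 ⟨x, hxV⟩
  obtain ⟨_, ⟨U, hU, rfl⟩, hxU, hUW⟩ := X.isBasis_affineOpens.exists_subset_of_mem_open hxW W.2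
  refine ⟨⟨U, hU⟩, hxU, X.presheaf.map (homOfLE (SetLike.coe_subset_coe.mp hUW)).op a,
    ⟨_, regSub_res (homOfLE (SetLike.coe_subset_coe.mp hUW)) b.2⟩, fun y => ?_⟩
  refine ⟨_, hf ⟨y.1, i.le (hUW y.2)⟩, ?_⟩
  simp only [TopCat.Presheaf.germ_res_apply]
  have e := hab ⟨y.1, hUW y.2⟩
  dsimp only at e
  change f.1.1 ⟨y.1, i.le (hUW y.2)⟩ * _ = _
  erw [e]
  change Localization.mk (X.presheaf.germ W y.1 (hUW y.2) a) (regGerm ⟨y.1, hUW y.2⟩ b) *
    algebraMap _ (KStalk X y.1) ((regGerm ⟨y.1, hUW y.2⟩ b : regStalk X y.1) : X.presheaf.stalk y.1) = _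
  rw [Localization.mk_eq_mk', IsLocalization.mk'_spec]

theorem mem_stalkUnits {x : X} {g : (KStalk X x)ˣ} :
    g ∈ stalkUnits X x ↔ ∃ v : (X.presheaf.stalk x)ˣ, algebraMap _ (KStalk X x) (v : X.presheaf.stalk x) = g := by
  rw [stalkUnits, MonoidHom.mem_range]
  exact exists_congr fun v => ⟨fun h => congrArg Units.val h, fun h => Units.ext h⟩

/-- A divisor is trivial at a point as soon as it and its inverse are effective there. -/
theorem eq_one_of_effective {D : Divisor X} {x : X} (h : IsEffectiveAt D x) (h' : IsEffectiveAt D⁻¹ x) :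
    D.1 x = 1 := by
  obtain ⟨a, ha⟩ := h
  obtain ⟨a', ha'⟩ := h'
  have e : D.1 x * D⁻¹.1 x = 1 := by simp
  rw [ha, ha', ← QuotientGroup.mk_mul, QuotientGroup.eq_one_iff, mem_stalkUnits] at e
  obtain ⟨v, hv⟩ := e
  rw [Units.val_mul, IsUnit.unit_spec, IsUnit.unit_spec, ← map_mul] at hv
  have hu : IsUnit (a : X.presheaf.stalk x) :=
    isUnit_of_mul_isUnit_left (algebraMap_KStalk_injective x hv ▸ v.isUnit)
  rw [ha, QuotientGroup.eq_one_iff, mem_stalkUnits]
  exact ⟨hu.unit, by simp⟩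

theorem effectiveAt_of_eq_one {D : Divisor X} {x : X} (h : D.1 x = 1) : IsEffectiveAt D x :=
  ⟨1, by
    rw [h, ← QuotientGroup.mk_one]
    exact congrArg QuotientGroup.mk (Units.ext (by simp))⟩

variable {D : Divisor X}

theorem germ_mem_span_of_effectiveAt {U : X.affineOpens} {m : Γ(X, U.1)} {b : regSub X U.1} {y : U.1}
    (g : (KStalk X y.1)ˣ) (hg : D.1 y.1 = QuotientGroup.mk g)
    (hgb : (g : KStalk X y.1) * algebraMap (X.presheaf.stalk y.1) _ (X.presheaf.germ U.1 y.1 y.2 b.1) =
      algebraMap (X.presheaf.stalk y.1) _ (X.presheaf.germ U.1 y.1 y.2 m))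
    (h : IsEffectiveAt D y.1) :
    X.presheaf.germ U.1 y.1 y.2 m ∈ Ideal.span {X.presheaf.germ U.1 y.1 y.2 b.1} := by
  obtain ⟨a, ha⟩ := h
  rw [hg, QuotientGroup.eq, mem_stalkUnits] at ha
  obtain ⟨v, hv⟩ := ha
  refine Ideal.mem_span_singleton'.mpr ⟨(a : X.presheaf.stalk y.1) * (↑v⁻¹ : X.presheaf.stalk y.1),
    algebraMap_KStalk_injective y.1 ?_⟩
  rw [map_mul, map_mul, ← hgb]
  congr 1
  have h2 : (g : KStalk X y.1) * algebraMap _ _ (v : X.presheaf.stalk y.1) = algebraMap _ _ (a : X.presheaf.stalk y.1) := by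
    rw [hv, Units.val_mul, ← mul_assoc, Units.mul_inv, one_mul, IsUnit.unit_spec]
  rw [← h2, mul_assoc, ← map_mul, Units.mul_inv, map_one, mul_one]

theorem effectiveAt_of_germ_mem_span {U : X.affineOpens} {m : Γ(X, U.1)} {b : regSub X U.1}
    (hfr : ∀ y : U.1, ∃ g : (KStalk X y.1)ˣ, D.1 y.1 = QuotientGroup.mk g ∧
      (g : KStalk X y.1) * algebraMap (X.presheaf.stalk y.1) _ (X.presheaf.germ U.1 y.1 y.2 b.1) =
        algebraMap (X.presheaf.stalk y.1) _ (X.presheaf.germ U.1 y.1 y.2 m))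
    (x : U.1) (h : X.presheaf.germ U.1 x.1 x.2 m ∈ Ideal.span {X.presheaf.germ U.1 x.1 x.2 b.1}) :
    IsEffectiveAt D x.1 := by
  obtain ⟨t, ht⟩ := Ideal.mem_span_singleton'.mp h
  obtain ⟨V, hxV, τ, rfl⟩ := X.presheaf.exists_germ_eq t
  have he : X.presheaf.germ (V ⊓ U.1) x.1 ⟨hxV, x.2⟩
      (X.presheaf.map (homOfLE inf_le_left).op τ * X.presheaf.map (homOfLE inf_le_right).op b.1) =
      X.presheaf.germ (V ⊓ U.1) x.1 ⟨hxV, x.2⟩ (X.presheaf.map (homOfLE inf_le_right).op m) := by
    rw [map_mul]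
    simpa only [TopCat.Presheaf.germ_res_apply] using ht
  obtain ⟨W, hxW, i, j, hW⟩ := X.presheaf.germ_eq x.1 _ _ _ _ he
  have key : ∀ z : W, ∃ g : (KStalk X z.1)ˣ, D.1 z.1 = QuotientGroup.mk g ∧
      (g : KStalk X z.1) = algebraMap _ _ (X.presheaf.germ V z.1 (i.le z.2).1 τ) := by
    intro z
    have hz : X.presheaf.germ V z.1 (i.le z.2).1 τ * X.presheaf.germ U.1 z.1 (i.le z.2).2 b.1 =
        X.presheaf.germ U.1 z.1 (i.le z.2).2 m := by
      have := congrArg (X.presheaf.germ W z.1 z.2) hW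
      simpa only [map_mul, TopCat.Presheaf.germ_res_apply] using this
    obtain ⟨g, hg1, hg2⟩ := hfr ⟨z.1, (i.le z.2).2⟩
    refine ⟨g, hg1, ?_⟩
    rw [← hz, map_mul] at hg2
    exact (IsLocalization.map_units (KStalk X z.1) (regGerm ⟨z.1, (i.le z.2).2⟩ b)).mul_right_cancel hg2
  have hτ : X.presheaf.map (homOfLE (fun z hz => (i.le hz).1 : W ≤ V)).op τ ∈ regSub X W := by
    intro z
    rw [TopCat.Presheaf.germ_res_apply, mem_nonZeroDivisors_iff_right]
    intro c hc
    obtain ⟨g, -, hg⟩ := key z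
    apply algebraMap_KStalk_injective z.1
    rw [map_zero]
    apply g.isUnit.mul_left_eq_zero.mp
    rw [hg, ← map_mul, hc, map_zero]
  obtain ⟨g, hg1, hg2⟩ := key ⟨x.1, hxW⟩
  refine ⟨regGerm ⟨x.1, hxW⟩ ⟨_, hτ⟩, hg1.trans (congrArg QuotientGroup.mk (Units.ext ?_))⟩
  rw [IsUnit.unit_spec, hg2]
  simp

/-- Effectivity at a point of depth different from one follows from effectivity at its proper generalizations. -/
theorem effectiveAt_of_generalizations [IsLocallyNoetherian X] (D : Divisor X) (x : X)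
    (hd : LocCoh.depth ↑(X.presheaf.stalk x) ↑(X.presheaf.stalk x) ≠ 1)
    (h : ∀ y : X, y ⤳ x → y ≠ x → IsEffectiveAt D y) : IsEffectiveAt D x := by
  obtain ⟨U, hxU, m, b, hfr⟩ := exists_frac D x
  refine effectiveAt_of_germ_mem_span hfr ⟨x, hxU⟩ ?_
  let := TopCat.Presheaf.algebra_section_stalk X.presheaf (⟨x, hxU⟩ : U.1)
  let p := U.2.primeIdealOf ⟨x, hxU⟩
  have : IsLocalization.AtPrime (X.presheaf.stalk x) p.asIdeal := U.2.isLocalization_stalk ⟨x, hxU⟩
  refine mem_span_of_depth_ne_one (b.2 ⟨x, hxU⟩) hd fun q hq hqm => ?_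
  let q0 : PrimeSpectrum Γ(X, U.1) := ⟨q.comap (algebraMap Γ(X, U.1) (X.presheaf.stalk x)), inferInstance⟩
  have hle : q0 ≤ p := by
    intro r hr
    by_contra hrp
    exact hq.ne_top (q.eq_top_of_isUnit_mem hr (IsLocalization.map_units (X.presheaf.stalk x)
      (⟨r, hrp⟩ : p.asIdeal.primeCompl)))
  let y := U.2.fromSpec q0
  have hyU : y ∈ U.1 := by
    have : y ∈ Set.range U.2.fromSpec := ⟨q0, rfl⟩
    rwa [U.2.range_fromSpec] at this
  have hxp : U.2.fromSpec p = x := U.2.fromSpec_primeIdealOf ⟨x, hxU⟩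
  have hyx : y ⤳ x := by
    rw [← hxp]
    exact ((PrimeSpectrum.le_iff_specializes q0 p).mp hle).map U.2.fromSpec.base.hom.continuous
  have hne : y ≠ x := by
    intro e
    rw [← hxp] at e
    have e' : q0 = p := U.2.fromSpec.isOpenEmbedding.injective e
    apply hqm
    have e2 : q = p.asIdeal.map (algebraMap Γ(X, U.1) (X.presheaf.stalk x)) := by
      rw [← e', IsLocalization.map_comap p.asIdeal.primeCompl]
    rw [e2, IsLocalization.AtPrime.map_eq_maximalIdeal]
  obtain ⟨g, hg, hgb⟩ := hfr ⟨y, hyU⟩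
  have hy := germ_mem_span_of_effectiveAt g hg hgb (h y hyx hne)
  let := TopCat.Presheaf.algebra_section_stalk X.presheaf (⟨y, hyU⟩ : U.1)
  have : IsLocalization.AtPrime (X.presheaf.stalk y) q0.asIdeal := U.2.isLocalization_stalk' q0 hyU
  change algebraMap Γ(X, U.1) (X.presheaf.stalk y) m ∈ Ideal.span {algebraMap Γ(X, U.1) (X.presheaf.stalk y) b.1} at hy
  rw [← Set.image_singleton, ← Ideal.map_span,
    IsLocalization.algebraMap_mem_map_algebraMap_iff q0.asIdeal.primeCompl] at hy
  obtain ⟨s, hs, hsm⟩ := hy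
  refine ⟨algebraMap Γ(X, U.1) (X.presheaf.stalk x) s, hs, ?_⟩
  obtain ⟨t, ht⟩ := Ideal.mem_span_singleton'.mp hsm
  refine Ideal.mem_span_singleton'.mpr ⟨algebraMap Γ(X, U.1) (X.presheaf.stalk x) t, ?_⟩
  change algebraMap Γ(X, U.1) (X.presheaf.stalk x) t * algebraMap Γ(X, U.1) (X.presheaf.stalk x) b.1 =
    algebraMap Γ(X, U.1) (X.presheaf.stalk x) s * algebraMap Γ(X, U.1) (X.presheaf.stalk x) m
  rw [← map_mul, ← map_mul, ht]

/-- A divisor effective at all points of depth one is effective. -/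
theorem isEffective_of_depth_one [IsLocallyNoetherian X] (D : Divisor X)
    (h : ∀ x : X, LocCoh.depth ↑(X.presheaf.stalk x) ↑(X.presheaf.stalk x) = 1 → IsEffectiveAt D x) :
    IsEffective D := by
  suffices H : ∀ (n : ℕ∞) (x : X), ringKrullDim (X.presheaf.stalk x) ≤ n → IsEffectiveAt D x by
    intro x; exact H ⊤ x le_top
  intro n
  induction n using WellFoundedLT.induction with
  | ind n ih =>
    intro x hx
    by_cases hd : LocCoh.depth ↑(X.presheaf.stalk x) ↑(X.presheaf.stalk x) = 1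
    · exact h x hd
    refine effectiveAt_of_generalizations D x hd fun y hyx hne => ?_
    obtain ⟨_, ⟨U, hU, rfl⟩, hxU, -⟩ := X.isBasis_affineOpens.exists_subset_of_mem_open (Set.mem_univ x) isOpen_univ
    have hyU : y ∈ U := hyx.mem_open U.2 hxU
    let p := hU.primeIdealOf ⟨x, hxU⟩
    let q := hU.primeIdealOf ⟨y, hyU⟩
    let := TopCat.Presheaf.algebra_section_stalk X.presheaf (⟨x, hxU⟩ : U)
    let := TopCat.Presheaf.algebra_section_stalk X.presheaf (⟨y, hyU⟩ : U)
    have hx' : IsLocalization.AtPrime (X.presheaf.stalk x) p.asIdeal := hU.isLocalization_stalk ⟨x, hxU⟩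
    have hy' : IsLocalization.AtPrime (X.presheaf.stalk y) q.asIdeal := hU.isLocalization_stalk ⟨y, hyU⟩
    have : IsNoetherianRing Γ(X, U) := IsLocallyNoetherian.component_noetherian ⟨U, hU⟩
    have hle : q ≤ p := by
      refine (PrimeSpectrum.le_iff_specializes q p).mpr
        (hU.fromSpec.isOpenEmbedding.isInducing.specializes_iff.mp ?_)
      rw [hU.fromSpec_primeIdealOf, hU.fromSpec_primeIdealOf]
      exact hyx
    have hlt : q < p := lt_of_le_of_ne hle fun e => hne (by
      have := congrArg hU.fromSpec e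
      simpa [p, q, hU.fromSpec_primeIdealOf] using this)
    rw [IsLocalization.AtPrime.ringKrullDim_eq_height p.asIdeal, WithBot.coe_le_coe] at hx
    have h1 : q.asIdeal.height < p.asIdeal.height :=
      Ideal.height_strict_mono_of_isPrime_of_isPrime hlt
    exact ih q.asIdeal.height (h1.trans_le hx) y
      (by rw [IsLocalization.AtPrime.ringKrullDim_eq_height q.asIdeal])

/-- A divisor trivial at all points of depth one is trivial. -/
theorem eq_one_of_depth_one [IsLocallyNoetherian X] (D : Divisor X)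
    (h : ∀ x : X, LocCoh.depth ↑(X.presheaf.stalk x) ↑(X.presheaf.stalk x) = 1 → D.1 x = 1) : D = 1 := by
  have h1 := isEffective_of_depth_one D fun x hx => effectiveAt_of_eq_one (h x hx)
  have h2 := isEffective_of_depth_one D⁻¹ fun x hx => effectiveAt_of_eq_one (by simp [h x hx])
  exact Subtype.ext (funext fun x => eq_one_of_effective (h1 x) (h2 x))

/-- The maximal points of the support of a divisor have depth one. -/
theorem depth_eq_one_of_maximal [IsLocallyNoetherian X] (D : Divisor X) (x : X) (hx : x ∈ supp D)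
    (hmax : ∀ z : X, z ∈ supp D → z ⤳ x → z = x) :
    LocCoh.depth ↑(X.presheaf.stalk x) ↑(X.presheaf.stalk x) = 1 := by
  by_contra hd
  have h0 : ∀ y : X, y ⤳ x → y ≠ x → D.1 y = 1 := fun y hy hne => by
    by_contra h
    exact hne (hmax y h hy)
  exact hx (eq_one_of_effective
    (effectiveAt_of_generalizations D x hd fun y hy hne => effectiveAt_of_eq_one (h0 y hy hne))
    (effectiveAt_of_generalizations D⁻¹ x hd fun y hy hne =>
      effectiveAt_of_eq_one (by simp [h0 y hy hne])))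

end Groth.Agent.MeroDivLead
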