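import Groth.Prelude.Def_MeroDiv
import Groth.Agent.ProjUPLib.TwistN

/-! `O_X(D)` is invertible and determines `D`. -/

universe u

open CategoryTheory AlgebraicGeometry TopologicalSpace Opposite

noncomputable section

namespace Groth.Agent.MeroDivLead

open Mero

variable {X : Scheme.{u}}

theorem divCond_inv {D : Divisor X} {x : X} {g : (KStalk X x)ˣ} (hg : D.1 x = QuotientGroup.mk g) :
    DivCond D x ((g⁻¹ : (KStalk X x)ˣ) : KStalk X x) := fun g' hg' => by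
  rw [hg, QuotientGroup.eq, stalkUnits, MonoidHom.mem_range] at hg'
  obtain ⟨v, hv⟩ := hg'
  exact ⟨v, by
    have := congrArg Units.val hv
    simpa using this⟩

/-- A divisor is determined by the germwise condition cutting out its module. -/
theorem eq_of_divCond {D D' : Divisor X}
    (h : ∀ (U : X.Opens) (t : Γ(kmod X, U)),
      (∀ x : ↥U, DivCond D x.1 (t.1 x)) ↔ (∀ x : ↥U, DivCond D' x.1 (t.1 x))) :
    D = D' := by
  refine Subtype.ext (funext fun x => ?_)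
  obtain ⟨U, hU, f, hf⟩ := D.2 x
  obtain ⟨U', hU', f', hf'⟩ := D'.2 x
  obtain ⟨a, ha⟩ := (h U (↑f⁻¹ : Γ(kmod X, U))).mp (fun y => divCond_inv (hf y)) ⟨x, hU⟩ _ (hf' ⟨x, hU'⟩)
  obtain ⟨b, hb⟩ := (h U' (↑f'⁻¹ : Γ(kmod X, U'))).mpr (fun y => divCond_inv (hf' y)) ⟨x, hU'⟩ _ (hf ⟨x, hU⟩)
  rw [hf ⟨x, hU⟩, hf' ⟨x, hU'⟩, QuotientGroup.eq, stalkUnits, MonoidHom.mem_range]
  set g := Units.map (evalK X U ⟨x, hU⟩).toMonoidHom f with hg
  set g' := Units.map (evalK X U' ⟨x, hU'⟩).toMonoidHom f' with hg'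
  have ha' : algebraMap (X.presheaf.stalk x) (KStalk X x) a = ((g⁻¹ * g' : (KStalk X x)ˣ) : KStalk X x) := ha
  have hb' : algebraMap (X.presheaf.stalk x) (KStalk X x) b = ((g'⁻¹ * g : (KStalk X x)ˣ) : KStalk X x) := hb
  have hab : a * b = 1 := algebraMap_KStalk_injective x (by
    rw [map_mul, ha', hb', ← Units.val_mul, map_one]
    simp [mul_assoc])
  exact ⟨⟨a, b, hab, by rw [mul_comm, hab]⟩, Units.ext ha'⟩

theorem eval_algebraMap_eq {W : X.Opens} (τ : Γ(X, W)) {V : X.Opens} {a : Γ(X, V)} {b : regSub X V} (z : X)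
    (hW : z ∈ W) (hV : z ∈ V)
    (h : LocalizedModule.mk (X.presheaf.germ V z hV a) (regGerm ⟨z, hV⟩ b) =
      algebraMap (X.presheaf.stalk z) (KStalk X z) (X.presheaf.germ W z hW τ)) :
    X.presheaf.germ V z hV a = X.presheaf.germ W z hW τ * X.presheaf.germ V z hV b.1 := by
  apply algebraMap_KStalk_injective z
  rw [map_mul, ← h]
  change _ = Localization.mk (X.presheaf.germ V z hV a) (regGerm ⟨z, hV⟩ b) *
    algebraMap _ (KStalk X z) ((regGerm ⟨z, hV⟩ b : regStalk X z) : X.presheaf.stalk z)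
  rw [Localization.mk_eq_mk', IsLocalization.mk'_spec]

/-- A meromorphic function regular at every point is a regular function. -/
theorem exists_section {V : X.Opens} (t : Γ(kmod X, V))
    (h : ∀ y : V, t.1 y ∈ (algebraMap (X.presheaf.stalk y.1) (KStalk X y.1)).range) :
    ∃ r : Γ(X, V), ∀ y : V, algebraMap _ (KStalk X y.1) (X.presheaf.germ V y.1 y.2 r) = t.1 y := by
  have loc : ∀ y : V, ∃ (W : X.Opens) (_ : y.1 ∈ W) (hWV : W ≤ V) (r : Γ(X, W)),
      ∀ z : W, algebraMap _ (KStalk X z.1) (X.presheaf.germ W z.1 z.2 r) = t.1 ⟨z.1, hWV z.2⟩ := by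
    intro y
    obtain ⟨c, hc⟩ := h y
    obtain ⟨W, hyW, τ, rfl⟩ := X.presheaf.exists_germ_eq c
    obtain ⟨V', hyV', i, a, b, hab⟩ := t.2 y
    have e := hab ⟨y.1, hyV'⟩
    dsimp only at e
    have hy : X.presheaf.germ V' y.1 hyV' a = X.presheaf.germ W y.1 hyW τ * X.presheaf.germ V' y.1 hyV' b.1 :=
      eval_algebraMap_eq τ y.1 hyW hyV' (e.symm.trans hc.symm)
    have he : X.presheaf.germ (W ⊓ V') y.1 ⟨hyW, hyV'⟩ (X.presheaf.map (homOfLE inf_le_right).op a) =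
        X.presheaf.germ (W ⊓ V') y.1 ⟨hyW, hyV'⟩
          (X.presheaf.map (homOfLE inf_le_left).op τ * X.presheaf.map (homOfLE inf_le_right).op b.1) := by
      rw [map_mul]
      simpa only [TopCat.Presheaf.germ_res_apply] using hy
    obtain ⟨W', hyW', j, j', hW'⟩ := X.presheaf.germ_eq y.1 _ _ _ _ he
    refine ⟨W', hyW', fun z hz => i.le (j.le hz).2,
      X.presheaf.map (homOfLE (fun z hz => (j.le hz).1 : W' ≤ W)).op τ, fun z => ?_⟩
    have e' := hab ⟨z.1, (j.le z.2).2⟩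
    dsimp only at e'
    have hz : X.presheaf.germ V' z.1 (j.le z.2).2 a =
        X.presheaf.germ W z.1 (j.le z.2).1 τ * X.presheaf.germ V' z.1 (j.le z.2).2 b.1 := by
      have := congrArg (X.presheaf.germ W' z.1 z.2) hW'
      simpa only [map_mul, TopCat.Presheaf.germ_res_apply] using this
    rw [TopCat.Presheaf.germ_res_apply]
    refine Eq.trans ?_ e'.symm
    change _ = Localization.mk (X.presheaf.germ V' z.1 (j.le z.2).2 a) (regGerm ⟨z.1, (j.le z.2).2⟩ b)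
    rw [Localization.mk_eq_mk', IsLocalization.eq_mk'_iff_mul_eq, ← map_mul, hz]
  choose W hyW hWV r hr using loc
  obtain ⟨s, hs, -⟩ := X.sheaf.existsUnique_gluing' W V (fun y => homOfLE (hWV y))
    (fun z hz => Opens.mem_iSup.mpr ⟨⟨z, hz⟩, hyW ⟨z, hz⟩⟩) r
    (fun y y' => by
      refine TopCat.Presheaf.section_ext X.sheaf _ _ _ fun z hz => ?_
      refine algebraMap_KStalk_injective z ?_
      erw [TopCat.Presheaf.germ_res_apply, TopCat.Presheaf.germ_res_apply]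
      exact (hr y ⟨z, hz.1⟩).trans (hr y' ⟨z, hz.2⟩).symm)
  refine ⟨s, fun y => ?_⟩
  have := hr y ⟨y.1, hyW y⟩
  rw [← this]
  congr 1
  rw [← hs y]
  exact (TopCat.Presheaf.germ_res_apply X.presheaf (homOfLE (hWV y)) y.1 (hyW y) s).symm

/-- `O_X(D)` is invertible. -/
theorem isInvertible_divMod (D : Divisor X) : PicF.IsInvertible (divMod D) := by
  refine ProjUPLib.isInvertible_of_local_frames fun x => ?_
  obtain ⟨U, hxU, f, hf⟩ := D.2 x
  refine ⟨U, hxU, ⟨(↑f⁻¹ : Γ(kmod X, U)).1, (↑f⁻¹ : Γ(kmod X, U)).2, fun y => divCond_inv (hf y)⟩,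
    fun V hV => ⟨fun r r' hrr => ?_, fun t => ?_⟩⟩
  · refine TopCat.Presheaf.section_ext X.sheaf _ _ _ fun y hy => algebraMap_KStalk_injective y ?_
    have e := congrArg (fun s : Γ(divMod D, V) => s.1 ⟨y, hy⟩) hrr
    change X.presheaf.germ V y hy r • (↑f⁻¹ : Γ(kmod X, U)).1 ⟨y, hV hy⟩ =
      X.presheaf.germ V y hy r' • (↑f⁻¹ : Γ(kmod X, U)).1 ⟨y, hV hy⟩ at e
    rw [Algebra.smul_def, Algebra.smul_def] at e
    exact ((f⁻¹).isUnit.map (evalK X U ⟨y, hV hy⟩)).mul_right_cancel e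
  · let t' : Γ(kmod X, V) := ⟨t.1, t.2.1⟩
    let fV : Γ(kmod X, V) := (kmod X).presheaf.map (homOfLE hV).op (f : Γ(kmod X, U))
    obtain ⟨r, hr⟩ := exists_section (t' * fV) fun y => t.2.2 y _ (hf ⟨y.1, hV y.2⟩)
    refine ⟨r, Subtype.ext (funext fun y => ?_)⟩
    change X.presheaf.germ V y.1 y.2 r • (↑f⁻¹ : Γ(kmod X, U)).1 ⟨y.1, hV y.2⟩ = t.1 y
    rw [Algebra.smul_def, hr y]
    change t.1 y * evalK X U ⟨y.1, hV y.2⟩ f * evalK X U ⟨y.1, hV y.2⟩ ↑f⁻¹ = t.1 y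
    rw [mul_assoc, ← map_mul, Units.mul_inv, map_one, mul_one]

end Groth.Agent.MeroDivLead
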