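import Groth.Agent.MeroDivLead.Easy
import Groth.Agent.MeroFrac.Regular
import Groth.Agent.AssPts.Scheme

/-! Extension of functions on schematically dense opens to meromorphic functions. -/

universe u

open CategoryTheory AlgebraicGeometry TopologicalSpace Opposite Groth.Agent.QCohBase

noncomputable section

namespace Groth.Agent.MeroDivLead

open Mero

variable {X : Scheme.{u}}

theorem wass_mem_of_dense_noetherian [IsLocallyNoetherian X] {U V : X.Opens}
    (hV : ∀ W : X.Opens, W ≤ U →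
      Function.Injective ⇑(X.presheaf.map (homOfLE (inf_le_left : W ⊓ V ≤ W)).op))
    {W : X.Opens} (hW : IsAffineOpen W) (hWU : W ≤ U) {x : X} (hx : x ∈ MeroFrac.wass W) : x ∈ V := by
  haveI := AssPts.isQuasicoherent_structureModule X
  let M := Coh.structureModule X
  by_contra hxV
  haveI : IsNoetherianRing Γ(X, W) := IsLocallyNoetherian.component_noetherian ⟨W, hW⟩
  obtain ⟨hp, s, hs⟩ := WeakAss.mem_ass_iff.1 ((AssPts.mem_ass_iff M hW x hx.1).1
    ((AssPts.isAssPoint_iff_isWeakAssPoint _ x).2 hx.2))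
  have hs0 : mres M (inf_le_left : W ⊓ V ≤ W) s = 0 := by
    refine TopCat.Presheaf.section_ext (⟨M.presheaf, M.isSheaf⟩ : TopCat.Sheaf AddCommGrpCat X.toTopCat)
      (W ⊓ V) _ _ fun y hy => ?_
    rw [map_zero]
    refine (AssPts.germ_mres M y _ hy s).trans ((AssPts.germ_eq_zero_iff M hW y hy.1 s).2 ?_)
    by_contra hcon
    push Not at hcon
    refine hxV (Specializes.mem_open ?_ V.isOpen hy.2 : x ∈ V)
    refine (AssPts.specializes_iff hW y hy.1 hx.1).2 fun g hg => by_contra fun hgy => ?_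
    exact hcon g hgy ((hs g).1 hg)
  have hz : s = 0 := hV W hWU (hs0.trans (map_zero _).symm)
  have h1 : (1 : Γ(X, W)) ∈ (hW.primeIdealOf ⟨x, hx.1⟩).asIdeal :=
    (hs 1).2 (by rw [one_smul]; exact hz)
  exact hp.ne_top ((Ideal.eq_top_iff_one _).2 h1)

theorem wass_mem_of_dense_maximal {U V : X.Opens}
    (hV : ∀ W : X.Opens, W ≤ U →
      Function.Injective ⇑(X.presheaf.map (homOfLE (inf_le_left : W ⊓ V ≤ W)).op))
    (ha : ∀ x : X, Curv2.IsWeakAssPoint (Coh.structureModule X) x → ∀ y : X, y ⤳ x → y = x)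
    {W : X.Opens} (hfin : (MeroFrac.wass W).Finite) (hWU : W ≤ U) {x : X} (hx : x ∈ MeroFrac.wass W) : x ∈ V := by
  by_contra hxV
  have hclosed : IsClosed (⋃ w ∈ MeroFrac.wass W \ {x}, closure ({w} : Set X)) :=
    (hfin.subset Set.sdiff_subset).isClosed_biUnion fun _ _ => isClosed_closure
  let W' : X.Opens := W ⊓ ⟨_, hclosed.isOpen_compl⟩
  have hxW' : x ∈ W' := by
    refine ⟨hx.1, fun h => ?_⟩
    obtain ⟨w, hw, hwx⟩ := Set.mem_iUnion₂.1 h
    exact hw.2 (ha x hx.2 w (specializes_iff_mem_closure.2 hwx))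
  have hempty : ∀ y, y ∈ W' ⊓ V → False := fun y hy => by
    obtain ⟨g, hg, hgmax⟩ := MeroFrac.exists_maximal_generization y
    have hgw : Curv2.IsWeakAssPoint (Coh.structureModule X) g := MeroFrac.wass_of_maximal hgmax
    by_cases hgW : g ∈ W
    · by_cases hgx : g = x
      · subst hgx
        exact hxV (hg.mem_open V.2 hy.2)
      · exact hy.1.2 (Set.mem_iUnion₂.2 ⟨g, ⟨⟨hgW, hgw⟩, hgx⟩, specializes_iff_mem_closure.1 hg⟩)
    · exact hgW (hg.mem_open W.2 hy.1.1)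
  have h1 : (1 : Γ(X, W')) = 0 := hV W' (inf_le_left.trans hWU) (by
    refine TopCat.Presheaf.section_ext X.sheaf _ _ _ fun y hy => (hempty y hy).elim)
  have h2 := congrArg (X.presheaf.germ W' x hxW') h1
  rw [map_one, map_zero] at h2
  exact one_ne_zero h2

theorem exists_local_extension {U V W : X.Opens} (hW : IsAffineOpen W) (hfin : (MeroFrac.wass W).Finite)
    (hWV : ∀ z ∈ MeroFrac.wass W, z ∈ V) (g : Γ(X, V)) :
    ∃ t : Γ(kmod X, W), ∀ y (hyW : y ∈ W) (hyV : y ∈ V),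
      evalK X W ⟨y, hyW⟩ t = algebraMap _ (KStalk X y) (X.presheaf.germ V y hyV g) := by
  classical
  haveI := hfin.fintype
  obtain ⟨J, hJ⟩ : ∃ J : Ideal Γ(X, W), ∀ r : Γ(X, W), r ∈ J ↔
      ∀ y (hy : y ∈ W), y ∉ V → r ∈ (hW.primeIdealOf ⟨y, hy⟩).asIdeal :=
    ⟨⨅ (y : X) (hy : y ∈ W) (_ : y ∉ V), (hW.primeIdealOf ⟨y, hy⟩).asIdeal, fun r => by simp only [Submodule.mem_iInf]⟩
  have hsub : ¬ (J : Set Γ(X, W)) ⊆ ⋃ z ∈ ((Finset.univ : Finset (MeroFrac.wass W)) : Set (MeroFrac.wass W)),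
      ((hW.primeIdealOf ⟨z.1, z.2.1⟩).asIdeal : Set Γ(X, W)) := by
    rcases isEmpty_or_nonempty (MeroFrac.wass W) with he | ⟨⟨z₀⟩⟩
    · intro h
      obtain ⟨z, -⟩ := Set.mem_iUnion₂.1 (h J.zero_mem)
      exact he.false z
    rw [Ideal.subset_union_prime z₀ z₀ fun z _ _ _ => (hW.primeIdealOf ⟨z.1, z.2.1⟩).isPrime]
    rintro ⟨z, -, hle⟩
    obtain ⟨h, hhV, hzh⟩ := hW.exists_basicOpen_le (V := V) ⟨z.1, hWV z.1 z.2⟩ z.2.1
    refine (AssPts.notMem_prime_iff hW z.1 z.2.1 h).2 ((X.mem_basicOpen h z.1 z.2.1).1 hzh) (hle ((hJ h).2 ?_))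
    intro y hy hyV
    by_contra hh
    exact hyV (hhV ((X.mem_basicOpen h y hy).2 ((AssPts.notMem_prime_iff hW y hy h).1 hh)))
  obtain ⟨b, hbJ, hb⟩ := Set.not_subset.1 hsub
  have hbV : X.basicOpen b ≤ V := fun y hy => by
    by_contra hyV
    have hyW := X.basicOpen_le b hy
    exact (AssPts.notMem_prime_iff hW y hyW b).2 ((X.mem_basicOpen b y hyW).1 hy) ((hJ b).1 hbJ y hyW hyV)
  have hbu : ∀ z (hz : z ∈ MeroFrac.wass W), IsUnit (X.presheaf.germ W z hz.1 b) := fun z hz =>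
    (AssPts.notMem_prime_iff hW z hz.1 b).1 fun h => hb (Set.mem_iUnion₂.2 ⟨⟨z, hz⟩, Finset.mem_univ _, h⟩)
  have hbreg : b ∈ regSub X W := MeroFrac.mem_regSub_of_units hW hbu
  have := hW.isLocalization_basicOpen b
  obtain ⟨⟨a, ⟨_, n, rfl⟩⟩, ha⟩ := IsLocalization.surj (Submonoid.powers b) (X.presheaf.map (homOfLE hbV).op g)
  let bn : regSub X W := ⟨b ^ n, pow_mem hbreg n⟩
  refine ⟨⟨fun y => Localization.mk (X.presheaf.germ W y.1 y.2 a) (regGerm y bn),
    fun x => ⟨W, x.2, 𝟙 _, a, bn, fun y => rfl⟩⟩, fun y hyW hyV => ?_⟩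
  have key : X.presheaf.germ W y hyW a = X.presheaf.germ V y hyV g * X.presheaf.germ W y hyW (b ^ n) := by
    obtain ⟨_, ⟨A, hA, rfl⟩, hyA, hAW⟩ := X.isBasis_affineOpens.exists_subset_of_mem_open
      (show y ∈ W ⊓ V from ⟨hyW, hyV⟩) (W ⊓ V).2
    have h1 : X.presheaf.map (homOfLE (fun z hz => (hAW hz).1 : A ≤ W)).op a -
        X.presheaf.map (homOfLE (fun z hz => (hAW hz).2 : A ≤ V)).op g *
          X.presheaf.map (homOfLE (fun z hz => (hAW hz).1 : A ≤ W)).op (b ^ n) = 0 :=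
      MeroFrac.ring_eq_zero hA _ fun z hz => by
        have hzW : z ∈ W := (hAW hz.1).1
        have hzb : z ∈ X.basicOpen b := (X.mem_basicOpen b z hzW).2 (hbu z ⟨hzW, hz.2⟩)
        have e := congrArg (X.presheaf.germ (X.basicOpen b) z hzb) ha
        rw [map_mul] at e
        erw [TopCat.Presheaf.germ_res_apply, TopCat.Presheaf.germ_res_apply, TopCat.Presheaf.germ_res_apply] at e
        rw [map_sub, map_mul, TopCat.Presheaf.germ_res_apply, TopCat.Presheaf.germ_res_apply,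
          TopCat.Presheaf.germ_res_apply, sub_eq_zero]
        exact e.symm
    have e := congrArg (X.presheaf.germ A y hyA) h1
    rw [map_sub, map_mul, map_zero, TopCat.Presheaf.germ_res_apply, TopCat.Presheaf.germ_res_apply,
      TopCat.Presheaf.germ_res_apply, sub_eq_zero] at e
    exact e
  change Localization.mk _ _ = _
  rw [Localization.mk_eq_mk', IsLocalization.mk'_eq_iff_eq_mul, key, map_mul]

theorem exists_extension {U V : X.Opens} (hVU : V ≤ U)
    (hV : ∀ W : X.Opens, W ≤ U →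
      Function.Injective ⇑(X.presheaf.map (homOfLE (inf_le_left : W ⊓ V ≤ W)).op))
    (hfin : ∀ W : X.Opens, IsAffineOpen W → (MeroFrac.wass W).Finite)
    (hmem : ∀ W : X.Opens, IsAffineOpen W → W ≤ U → ∀ z ∈ MeroFrac.wass W, z ∈ V) (g : Γ(X, V)) :
    ∃ s : Γ(kmod X, U), (kmod X).presheaf.map (homOfLE hVU).op s = toK X V g := by
  have loc : ∀ x : U, ∃ (W : X.Opens) (_ : x.1 ∈ W) (_ : W ≤ U) (t : Γ(kmod X, W)),
      ∀ y (hyW : y ∈ W) (hyV : y ∈ V),
        evalK X W ⟨y, hyW⟩ t = algebraMap _ (KStalk X y) (X.presheaf.germ V y hyV g) := by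
    intro x
    obtain ⟨_, ⟨W, hW, rfl⟩, hxW, hWU⟩ := X.isBasis_affineOpens.exists_subset_of_mem_open x.2 U.2
    exact ⟨W, hxW, hWU, exists_local_extension (U := U) hW (hfin W hW) (hmem W hW hWU) g⟩
  choose W hxW hWU t ht using loc
  have agree : ∀ (x : U) (y : W x), evalK X (W x) y (t x) =
      evalK X (W ⟨y.1, hWU x y.2⟩) ⟨y.1, hxW ⟨y.1, hWU x y.2⟩⟩ (t ⟨y.1, hWU x y.2⟩) := by
    intro x y
    let x' : U := ⟨y.1, hWU x y.2⟩
    let T : X.Opens := W x ⊓ W x'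
    have := restrict_injective T (T ⊓ V) inf_le_left (fun A hA => by
      have h1 := hV A (hA.trans (inf_le_left.trans (hWU x)))
      intro r r' hr
      refine h1 ?_
      have e : A ⊓ V ≤ A ⊓ (T ⊓ V) := le_inf inf_le_left (le_inf (inf_le_left.trans hA) inf_le_right)
      have := congrArg (X.presheaf.map (homOfLE e).op) hr
      rw [← ConcreteCategory.comp_apply, ← ConcreteCategory.comp_apply, ← Functor.map_comp] at this
      exact this)
      (a₁ := (kmod X).presheaf.map (homOfLE (inf_le_left : T ≤ W x)).op (t x))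
      (a₂ := (kmod X).presheaf.map (homOfLE (inf_le_right : T ≤ W x')).op (t x'))
      (Subtype.ext (funext fun z => (ht x z.1 z.2.1.1 z.2.2).trans (ht x' z.1 z.2.1.2 z.2.2).symm))
    exact congrArg (fun u : Γ(kmod X, T) => u.1 ⟨y.1, y.2, hxW x'⟩) this
  refine ⟨⟨fun y => evalK X (W y) ⟨y.1, hxW y⟩ (t y), fun x => ?_⟩, Subtype.ext (funext fun y => ?_)⟩
  · obtain ⟨A, hA, i, a, b, hab⟩ := (t x).2 ⟨x.1, hxW x⟩
    exact ⟨A, hA, i ≫ homOfLE (hWU x), a, b, fun z => (agree x ⟨z.1, i.le z.2⟩).symm.trans (hab z)⟩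
  · exact ht ⟨y.1, hVU y.2⟩ y.1 (hxW _) y.2

end Groth.Agent.MeroDivLead
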