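import Groth.Agent.MeroDivLead.OfSection
import Groth.Agent.GenLocus.PullTensor
import Groth.Agent.QCohBase.Exact

/-! Invertible fractional ideals. -/

universe u

open CategoryTheory AlgebraicGeometry TopologicalSpace Opposite

noncomputable section

namespace Groth.Agent.MeroDivLead

open Mero Groth.Agent.GenLocus Groth.Agent.QCohBase

variable {X : Scheme.{u}} {J : X.Modules}

theorem smul_eq_toK_mul {V : X.Opens} (r : Γ(X, V)) (t : Γ(kmod X, V)) : r • t = toK X V r * t :=
  Subtype.ext (funext fun y => by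
    change X.presheaf.germ V y.1 y.2 r • t.1 y = _ * t.1 y
    rw [Algebra.smul_def]
    exact congrArg (· * t.1 y) (Localization.mk_one_eq_algebraMap _).symm)

theorem isInvertible_iff_local_units (ι : J ⟶ kmod X) [Mono ι] :
    PicF.IsInvertible J ↔ ∀ x : X, ∃ (U : X.Opens) (_ : x ∈ U) (f : (Γ(kmod X, U))ˣ),
      ∀ (V : X.Opens) (hV : V ≤ U),
        Set.range ⇑(ι.val.app (op V)) =
          {t : Γ(kmod X, V) | ∃ r : Γ(X, V),
            t = toK X V r * (kmod X).presheaf.map (homOfLE hV).op (f : Γ(kmod X, U))} := by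
  constructor
  · intro hJ x
    obtain ⟨U, -, hxU, -, e, he⟩ := exists_isFrame hJ (W := (⊤ : X.Opens)) (x := x) trivial
    let φ : Γ(kmod X, U) := ι.app U e
    have loc : ∀ y : U, ∃ (W : X.Opens) (_ : y.1 ∈ W) (hW : W ≤ U) (a : Γ(X, W)) (b : regSub X W),
        a ∈ regSub X W ∧ ∀ z : W, φ.1 ⟨z.1, hW z.2⟩ =
          Localization.mk (X.presheaf.germ W z.1 z.2 a) (regGerm z b) := by
      intro y
      obtain ⟨W, hyW, i, a, b, hab⟩ := φ.2 y
      refine ⟨W, hyW, i.le, a, b, fun z => ?_, hab⟩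
      rw [mem_nonZeroDivisors_iff_right]
      intro c hc
      obtain ⟨T₀, hzT, τ, rfl⟩ := X.presheaf.exists_germ_eq c
      have he' : X.presheaf.germ (T₀ ⊓ W) z.1 ⟨hzT, z.2⟩
          (X.presheaf.map (homOfLE inf_le_left).op τ * X.presheaf.map (homOfLE inf_le_right).op a) =
          X.presheaf.germ (T₀ ⊓ W) z.1 ⟨hzT, z.2⟩ 0 := by
        rw [map_mul, map_zero]
        simpa only [TopCat.Presheaf.germ_res_apply] using hc
      obtain ⟨T, hzT', j, j', hT⟩ := X.presheaf.germ_eq z.1 _ _ _ _ he'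
      let τT : Γ(X, T) := X.presheaf.map (homOfLE (j.le.trans inf_le_left)).op τ
      have hTU : T ≤ U := (j.le.trans inf_le_right).trans i.le
      have h0 : ι.app T (τT • mres J hTU e) = 0 := by
        rw [app_smul', ← app_mres]
        refine Subtype.ext (funext fun w => ?_)
        change X.presheaf.germ T w.1 w.2 τT • φ.1 ⟨w.1, hTU w.2⟩ = (0 : KStalk X w.1)
        rw [show φ.1 ⟨w.1, hTU w.2⟩ = _ from hab ⟨w.1, (j.le w.2).2⟩, Algebra.smul_def]
        change _ * Localization.mk _ _ = _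
        rw [← Localization.mk_one_eq_algebraMap, Localization.mk_mul]
        have e1 := congrArg (X.presheaf.germ T w.1 w.2) hT
        simp only [map_mul, map_zero, TopCat.Presheaf.germ_res_apply] at e1
        simp only [τT, TopCat.Presheaf.germ_res_apply, e1, Localization.mk_zero]
      have h1 : τT • mres J hTU e = 0 := app_injective_of_mono ι T (h0.trans (map_zero _).symm)
      have h2 : τT = 0 := (he T hTU).1 (by simpa using h1)
      have h3 := congrArg (X.presheaf.germ T z.1 hzT') h2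
      simpa only [τT, map_zero, TopCat.Presheaf.germ_res_apply] using h3
    have hu : ∀ y : U, IsUnit (φ.1 y) := fun y => by
      obtain ⟨W, hyW, hW, a, b, ha, hab⟩ := loc y
      rw [show φ.1 y = _ from hab ⟨y.1, hyW⟩]
      refine IsUnit.of_mul_eq_one (Localization.mk (X.presheaf.germ W y.1 hyW b.1)
        (regGerm ⟨y.1, hyW⟩ ⟨a, ha⟩) : KStalk X y.1) ?_
      rw [Localization.mk_mul]
      refine Eq.trans (congrArg (fun n => Localization.mk n _) ?_)
        (Localization.mk_self (regGerm ⟨y.1, hyW⟩ b * regGerm ⟨y.1, hyW⟩ ⟨a, ha⟩))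
      rw [Submonoid.coe_mul]
      exact mul_comm _ _
    let d : ∀ y : U, KStalk X y.1 := fun y => ↑((hu y).unit⁻¹)
    have hd : (kLoc X).pred d := fun y => by
      obtain ⟨W, hyW, hW, a, b, ha, hab⟩ := loc y
      refine ⟨W, hyW, homOfLE hW, b.1, ⟨a, ha⟩, fun z => ?_⟩
      refine ((hu ⟨z.1, hW z.2⟩).unit).inv_eq_of_mul_eq_one_right ?_
      rw [IsUnit.unit_spec, hab z]
      change Localization.mk _ _ * Localization.mk _ _ = 1
      rw [Localization.mk_mul, Localization.mk_eq_mk', IsLocalization.mk'_eq_iff_eq_mul, one_mul]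
      simp [mul_comm]
    let ds : Γ(kmod X, U) := ⟨d, hd⟩
    refine ⟨U, hxU, ⟨φ, ds, Subtype.ext (funext fun y => (hu y).mul_val_inv),
      Subtype.ext (funext fun y => (hu y).val_inv_mul)⟩, fun V hV => Set.ext fun t => ?_⟩
    have key : ∀ r : Γ(X, V), ι.app V (r • mres J hV e) = toK X V r * (kmod X).presheaf.map (homOfLE hV).op φ := by
      intro r
      rw [app_smul', ← app_mres]
      exact smul_eq_toK_mul r _
    constructor
    · rintro ⟨j, rfl⟩
      obtain ⟨r, hr⟩ := (he V hV).2 j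
      exact ⟨r, (congrArg (ι.app V) hr.symm).trans (key r)⟩
    · rintro ⟨r, rfl⟩
      exact ⟨r • mres J hV e, key r⟩
  · intro h
    refine ProjUPLib.isInvertible_of_local_frames fun x => ?_
    obtain ⟨U, hxU, f, hf⟩ := h x
    obtain ⟨e, he⟩ : ∃ e : Γ(J, U), ι.app U e = (f : Γ(kmod X, U)) := by
      have := (hf U le_rfl).ge (⟨1, by rw [map_one, one_mul]; rfl⟩ :
        (f : Γ(kmod X, U)) ∈ {t : Γ(kmod X, U) | ∃ r : Γ(X, U),
            t = toK X U r * (kmod X).presheaf.map (homOfLE (le_refl U)).op (f : Γ(kmod X, U))})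
      obtain ⟨e, he⟩ := this
      exact ⟨e, he⟩
    refine ⟨U, hxU, e, fun V hV => ?_⟩
    have key : ∀ r : Γ(X, V), ι.app V (r • mres J hV e) = toK X V r * (kmod X).presheaf.map (homOfLE hV).op (f : Γ(kmod X, U)) := by
      intro r
      rw [app_smul', ← app_mres, he]
      exact smul_eq_toK_mul r _
    refine ⟨fun r r' hrr => ?_, fun j => ?_⟩
    · refine TopCat.Presheaf.section_ext X.sheaf _ _ _ fun y hy => algebraMap_KStalk_injective y ?_
      have e1 := congrArg (fun u : Γ(kmod X, V) => u.1 ⟨y, hy⟩) ((key r).symm.trans ((congrArg (ι.app V) hrr).trans (key r')))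
      have e2 := (f.isUnit.map (evalK X U ⟨y, hV hy⟩)).mul_right_cancel e1
      exact (Localization.mk_one_eq_algebraMap _).symm.trans (e2.trans (Localization.mk_one_eq_algebraMap _))
    · obtain ⟨r, hr⟩ := (hf V hV).le ⟨j, rfl⟩
      exact ⟨r, app_injective_of_mono ι V ((key r).trans hr.symm)⟩

end Groth.Agent.MeroDivLead
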