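import Groth.Agent.AssPtsMore.Basic
import Groth.Agent.Depth.Basic
import Groth.Prelude.Def_MeroSh
import Mathlib.RingTheory.KrullDimension.Zero

/-! Pullback of regular sections. -/

universe u

open CategoryTheory AlgebraicGeometry TopologicalSpace Opposite IsLocalRing

noncomputable section

namespace Groth.Agent.MeroDivLead

open Mero

variable {X Y : Scheme.{u}}

theorem mem_regSub_of_isUnit (f : X ⟶ Y) (U : Y.Opens) (s : Γ(Y, U)) (S : Set X)
    (hsep : ∀ (V : X.Opens), IsAffineOpen V → ∀ r : Γ(X, V),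
      (∀ y (hy : y ∈ V), y ∈ S → X.presheaf.germ V y hy r = 0) → r = 0)
    (hu : ∀ y ∈ S, ∀ hy : f y ∈ U, IsUnit (Y.presheaf.germ U (f y) hy s)) :
    f.app U s ∈ regSub X (f ⁻¹ᵁ U) := by
  intro x
  rw [mem_nonZeroDivisors_iff_right]
  intro c hc
  obtain ⟨V, hxV, τ, rfl⟩ := X.presheaf.exists_germ_eq c
  have he : X.presheaf.germ (V ⊓ f ⁻¹ᵁ U) x.1 ⟨hxV, x.2⟩
      (X.presheaf.map (homOfLE inf_le_left).op τ * X.presheaf.map (homOfLE inf_le_right).op (f.app U s)) =
      X.presheaf.germ (V ⊓ f ⁻¹ᵁ U) x.1 ⟨hxV, x.2⟩ 0 := by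
    rw [map_mul, map_zero]
    erw [TopCat.Presheaf.germ_res_apply, TopCat.Presheaf.germ_res_apply]
    exact hc
  obtain ⟨W, hxW, i, j, hW⟩ := X.presheaf.germ_eq x.1 _ _ _ _ he
  obtain ⟨_, ⟨A, hA, rfl⟩, hxA, hAW⟩ := X.isBasis_affineOpens.exists_subset_of_mem_open hxW W.2
  have h0 : X.presheaf.map (homOfLE (fun z hz => (i.le (hAW hz)).1 : A ≤ V)).op τ = 0 := by
    refine hsep A hA _ fun y hy hyS => ?_
    have e := congrArg (X.presheaf.germ W y (hAW hy)) hW
    simp only [map_mul, map_zero, TopCat.Presheaf.germ_res_apply] at e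
    rw [TopCat.Presheaf.germ_res_apply]
    have hys : IsUnit (X.presheaf.germ (f ⁻¹ᵁ U) y (i.le (hAW hy)).2 (f.app U s)) := by
      have := (hu y hyS (i.le (hAW hy)).2).map (f.stalkMap y).hom
      rwa [Scheme.Hom.germ_stalkMap_apply] at this
    exact hys.mul_left_eq_zero.mp e
  have := congrArg (X.presheaf.germ A x.1 hxA) h0
  simp only [map_zero, TopCat.Presheaf.germ_res_apply] at this
  exact this

theorem regSub_pullback_of_ass [IsLocallyNoetherian X] [IsLocallyNoetherian Y] (f : X ⟶ Y)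
    (hf : ∀ x : ↥X, IsAssociatedPrime (maximalIdeal ↑(X.presheaf.stalk x)) ↑(X.presheaf.stalk x) →
      IsAssociatedPrime (maximalIdeal ↑(Y.presheaf.stalk (f x))) ↑(Y.presheaf.stalk (f x)))
    (U : Y.Opens) (s : Γ(Y, U)) (hs : s ∈ regSub Y U) : f.app U s ∈ regSub X (f ⁻¹ᵁ U) := by
  have := AssPts.isQuasicoherent_structureModule X
  refine mem_regSub_of_isUnit f U s
    {x | IsAssociatedPrime (maximalIdeal ↑(X.presheaf.stalk x)) ↑(X.presheaf.stalk x)} ?_ ?_
  · intro V hV r hr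
    refine AssPts.eq_zero_of_forall_germ (Coh.structureModule X) hV r fun y hy hyA => ?_
    have h0 := hr y hy ((AssPtsMore.isAssociatedPrime_stalk_iff y).2 hyA)
    let := TopCat.Presheaf.algebra_section_stalk X.presheaf (⟨y, hy⟩ : V)
    have : IsLocalization.AtPrime (X.presheaf.stalk y) (hV.primeIdealOf ⟨y, hy⟩).asIdeal :=
      hV.isLocalization_stalk ⟨y, hy⟩
    obtain ⟨⟨t, ht⟩, htr⟩ := (IsLocalization.map_eq_zero_iff
      (hV.primeIdealOf ⟨y, hy⟩).asIdeal.primeCompl (X.presheaf.stalk y) r).mp h0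
    exact (AssPts.germ_eq_zero_iff (Coh.structureModule X) hV y hy r).2 ⟨t, ht, htr⟩
  · intro y hy hyU
    by_contra hn
    obtain ⟨-, z, hz⟩ := hf y hy
    have hz0 : z ≠ 0 := by
      rintro rfl
      refine (maximalIdeal.isMaximal (Y.presheaf.stalk (f y))).ne_top ?_
      rw [hz, Ideal.eq_top_iff_one]
      exact Ideal.le_radical (Submodule.mem_colon_singleton.mpr (by simp))
    have hm : Y.presheaf.germ U (f y) hyU s ∈ maximalIdeal _ := hn
    rw [hz] at hm
    have hnzd := hs ⟨f y, hyU⟩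
    obtain ⟨n, hn'⟩ := hm
    rw [Submodule.mem_colon_singleton, Submodule.mem_bot, smul_eq_mul] at hn'
    exact hz0 (mem_nonZeroDivisors_iff_left.mp (pow_mem hnzd n) z hn')

theorem regSub_pullback_of_maximal [IsReduced X] (f : X ⟶ Y)
    (hf : ∀ ξ : ↥X, (∀ z : ↥X, z ⤳ ξ → z = ξ) → ∀ z : ↥Y, z ⤳ f ξ → z = f ξ)
    (U : Y.Opens) (s : Γ(Y, U)) (hs : s ∈ regSub Y U) : f.app U s ∈ regSub X (f ⁻¹ᵁ U) := by
  refine mem_regSub_of_isUnit f U s {ξ | ∀ z : ↥X, z ⤳ ξ → z = ξ} ?_ ?_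
  · intro V hV r hr
    refine IsReduced.eq_zero r (mem_nilradical.mp ?_)
    rw [nilradical_eq_sInf, Submodule.mem_sInf]
    intro p hp
    have : Ideal.IsPrime p := hp
    obtain ⟨q, hq, hqp⟩ := Ideal.exists_minimalPrimes_le (bot_le : (⊥ : Ideal Γ(X, V)) ≤ p) (J := p) (I := ⊥)
    refine hqp ?_
    by_contra hrq
    let q' : PrimeSpectrum Γ(X, V) := ⟨q, hq.1.1⟩
    have hq'p : q'.asIdeal.IsPrime := q'.isPrime
    let y := hV.fromSpec q'
    have hy : y ∈ V := by
      have : y ∈ Set.range hV.fromSpec := ⟨q', rfl⟩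
      rwa [hV.range_fromSpec] at this
    have hmax : ∀ z : ↥X, z ⤳ y → z = y := fun z hz => by
      have hzV : z ∈ V := hz.mem_open V.2 hy
      have e : hV.fromSpec (hV.primeIdealOf ⟨z, hzV⟩) = z := hV.fromSpec_primeIdealOf _
      rw [← e] at hz ⊢
      have hle := (PrimeSpectrum.le_iff_specializes (hV.primeIdealOf ⟨z, hzV⟩) q').mpr
        (hV.fromSpec.isOpenEmbedding.isInducing.specializes_iff.mp hz)
      exact congrArg hV.fromSpec (PrimeSpectrum.ext (le_antisymm (α := Ideal Γ(X, V)) hle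
        (hq.2 ⟨(hV.primeIdealOf _).isPrime, bot_le⟩ hle)))
    have h0 := hr y hy hmax
    let := TopCat.Presheaf.algebra_section_stalk X.presheaf (⟨y, hy⟩ : V)
    have : IsLocalization.AtPrime (X.presheaf.stalk y) q'.asIdeal := hV.isLocalization_stalk' q' hy
    obtain ⟨⟨t, ht⟩, htr⟩ := (IsLocalization.map_eq_zero_iff q'.asIdeal.primeCompl (X.presheaf.stalk y) r).mp h0
    exact hrq ((hq.1.1.mem_or_mem (show t * r ∈ q from (show t * r = 0 from htr) ▸ q.zero_mem)).resolve_left ht)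
  · intro y hy hyU
    obtain ⟨_, ⟨A, hA, rfl⟩, hyA, -⟩ := Y.isBasis_affineOpens.exists_subset_of_mem_open hyU U.2
    let p := hA.primeIdealOf ⟨f y, hyA⟩
    let := TopCat.Presheaf.algebra_section_stalk Y.presheaf (⟨f y, hyA⟩ : A)
    have : IsLocalization.AtPrime (Y.presheaf.stalk (f y)) p.asIdeal := hA.isLocalization_stalk ⟨f y, hyA⟩
    have hpmin : p.asIdeal ∈ minimalPrimes Γ(Y, A) := by
      refine ⟨⟨p.isPrime, bot_le⟩, fun q ⟨hq, _⟩ hqp => ?_⟩
      let q' : PrimeSpectrum Γ(Y, A) := ⟨q, hq⟩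
      have e : hA.fromSpec p = f y := hA.fromSpec_primeIdealOf ⟨f y, hyA⟩
      have h1 : hA.fromSpec q' ⤳ f y := by
        rw [← e]
        exact ((PrimeSpectrum.le_iff_specializes q' p).mp hqp).map hA.fromSpec.base.hom.continuous
      have h2 := hf y hy _ h1
      rw [← e] at h2
      have h3 : q' = p := hA.fromSpec.isOpenEmbedding.injective h2
      rw [← h3]
    have : Ring.KrullDimLE 0 (Y.presheaf.stalk (f y)) :=
      Ring.KrullDimLE.of_isLocalization p.asIdeal hpmin _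
    by_contra hn
    obtain ⟨n, hn'⟩ := (Ring.KrullDimLE.isNilpotent_iff_mem_nonunits.mpr hn :
      IsNilpotent (Y.presheaf.germ U (f y) hyU s))
    have h0 : (0 : Y.presheaf.stalk (f y)) ∈ nonZeroDivisors (Y.presheaf.stalk (f y)) :=
      hn' ▸ pow_mem (hs ⟨f y, hyU⟩) n
    exact one_ne_zero (mem_nonZeroDivisors_iff_right.mp h0 1 (by simp))

end Groth.Agent.MeroDivLead
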