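import Groth.Agent.MeroDivLead.OfSection
import Groth.Agent.GenLocus.PullTensor

/-! `O_X(D)` has a regular meromorphic section. -/

universe u

open CategoryTheory AlgebraicGeometry TopologicalSpace Opposite

noncomputable section

namespace Groth.Agent.MeroDivLead

open Mero Groth.Agent.GenLocus Groth.Agent.QCohBase

variable {X : Scheme.{u}} {L : X.Modules}

theorem isFrame_divMod_inv {D : Divisor X} {U : X.Opens} (f : (Γ(kmod X, U))ˣ) (hf : ∀ y : U, D.1 y.1 = germOf f y) :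
    IsFrame (divMod D) (⟨(↑f⁻¹ : Γ(kmod X, U)).1, (↑f⁻¹ : Γ(kmod X, U)).2, fun y => divCond_inv (hf y)⟩ :
      Γ(divMod D, U)) := fun V hV => ⟨fun r r' hrr => by
    refine TopCat.Presheaf.section_ext X.sheaf _ _ _ fun y hy => algebraMap_KStalk_injective y ?_
    have e := congrArg (fun s : Γ(divMod D, V) => s.1 ⟨y, hy⟩) hrr
    change X.presheaf.germ V y hy r • (↑f⁻¹ : Γ(kmod X, U)).1 ⟨y, hV hy⟩ =
      X.presheaf.germ V y hy r' • (↑f⁻¹ : Γ(kmod X, U)).1 ⟨y, hV hy⟩ at e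
    rw [Algebra.smul_def, Algebra.smul_def] at e
    exact ((f⁻¹).isUnit.map (evalK X U ⟨y, hV hy⟩)).mul_right_cancel e, fun t => by
    let t' : Γ(kmod X, V) := ⟨t.1, t.2.1⟩
    let fV : Γ(kmod X, V) := (kmod X).presheaf.map (homOfLE hV).op (f : Γ(kmod X, U))
    obtain ⟨r, hr⟩ := exists_section (t' * fV) fun y => t.2.2 y _ (hf ⟨y.1, hV y.2⟩)
    refine ⟨r, Subtype.ext (funext fun y => ?_)⟩
    change X.presheaf.germ V y.1 y.2 r • (↑f⁻¹ : Γ(kmod X, U)).1 ⟨y.1, hV y.2⟩ = t.1 y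
    rw [Algebra.smul_def, hr y]
    change t.1 y * evalK X U ⟨y.1, hV y.2⟩ f * evalK X U ⟨y.1, hV y.2⟩ ↑f⁻¹ = t.1 y
    rw [mul_assoc, ← map_mul, Units.mul_inv, map_one, mul_one]⟩

theorem hasRegularMero_of_iso (D : Divisor X) (φ : L ≅ divMod D) : HasRegularMero L := by
  classical
  choose U hxU f hf using fun x : X => D.2 x
  let l : ∀ x, Γ(L, U x) := fun x => φ.inv.app (U x)
    (⟨(↑(f x)⁻¹ : Γ(kmod X, U x)).1, (↑(f x)⁻¹ : Γ(kmod X, U x)).2, fun y => divCond_inv (hf x y)⟩ : Γ(divMod D, U x))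
  have hframe : ∀ x, IsFrame L (l x) := fun x V hV => by
    have hb : Function.Bijective (φ.inv.app V) :=
      (ConcreteCategory.isIso_iff_bijective _).mp (Scheme.Modules.Hom.isIso_iff_isIso_app.mp inferInstance V)
    refine (?_ : Function.Bijective _)
    have e : (fun r : Γ(X, V) => r • mres L hV (l x)) = fun r : Γ(X, V) => φ.inv.app V (r • mres (divMod D) hV
        (⟨(↑(f x)⁻¹ : Γ(kmod X, U x)).1, (↑(f x)⁻¹ : Γ(kmod X, U x)).2, fun y => divCond_inv (hf x y)⟩ : Γ(divMod D, U x))) := by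
      funext r
      rw [app_smul', app_mres]
    rw [e]
    exact hb.comp (isFrame_divMod_inv (f x) (hf x) V hV)
  let val : ∀ y : X, MStalk L y := fun y =>
    evalK X (U y) ⟨y, hxU y⟩ (f y) • toM L y (L.presheaf.germ (U y) y (hxU y) (l y))
  have agree : ∀ (x : X) (y : U x), val y.1 = evalK X (U x) y (f x) • toM L y.1 (L.presheaf.germ (U x) y.1 y.2 (l x)) := by
    intro x y
    let W : X.Opens := U x ⊓ U y.1
    have hyW : y.1 ∈ W := ⟨y.2, hxU y.1⟩
    obtain ⟨r, hr⟩ := ((isFrame_divMod_inv (f x) (hf x)) W inf_le_left).2 (mres (divMod D) (inf_le_right : W ≤ U y.1)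
      (⟨(↑(f y.1)⁻¹ : Γ(kmod X, U y.1)).1, (↑(f y.1)⁻¹ : Γ(kmod X, U y.1)).2, fun z => divCond_inv (hf y.1 z)⟩ : Γ(divMod D, U y.1)))
    have hr2 : r • mres L (inf_le_left : W ≤ U x) (l x) = mres L (inf_le_right : W ≤ U y.1) (l y.1) := by
      have := congrArg (φ.inv.app W) hr
      dsimp only at this
      rw [app_smul', ← app_mres, ← app_mres] at this
      exact this
    have h1 : algebraMap _ (KStalk X y.1) (X.presheaf.germ W y.1 hyW r) * evalK X (U x) y ↑(f x)⁻¹ =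
        evalK X (U y.1) ⟨y.1, hxU y.1⟩ ↑(f y.1)⁻¹ := by
      have := congrArg (fun u : Γ(divMod D, W) => u.1 ⟨y.1, hyW⟩) hr
      exact (Algebra.smul_def _ _).symm.trans this
    have h2 : L.presheaf.germ (U y.1) y.1 (hxU y.1) (l y.1) =
        X.presheaf.germ W y.1 hyW r • L.presheaf.germ (U x) y.1 y.2 (l x) := by
      have := congrArg (L.presheaf.germ W y.1 hyW) hr2
      rw [germ_smul] at this
      erw [TopCat.Presheaf.germ_res_apply, TopCat.Presheaf.germ_res_apply] at this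
      exact this.symm
    change evalK X (U y.1) ⟨y.1, hxU y.1⟩ (f y.1) • toM L y.1 _ = _
    rw [h2, ← k_smul_toM, smul_smul]
    congr 1
    calc evalK X (U y.1) ⟨y.1, hxU y.1⟩ (f y.1) * algebraMap _ _ (X.presheaf.germ W y.1 hyW r)
        = evalK X (U y.1) ⟨y.1, hxU y.1⟩ (f y.1) * (algebraMap _ _ (X.presheaf.germ W y.1 hyW r) *
            evalK X (U x) y ↑(f x)⁻¹) * evalK X (U x) y (f x) := by
          rw [mul_assoc, mul_assoc (algebraMap _ _ _), ← map_mul (evalK X (U x) y), Units.inv_mul, map_one, mul_one]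
      _ = evalK X (U x) y (f x) := by rw [h1, ← map_mul, Units.mul_inv, map_one, one_mul]
  refine ⟨⟨fun y => val y.1, fun x => ?_⟩, fun y q hq => ?_⟩
  · obtain ⟨W, hW, i, a, b, hab⟩ := (f x.1).1.2 ⟨x.1, hxU x.1⟩
    refine ⟨W, hW, homOfLE le_top, a • mres L i.le (l x.1), b, fun z => ?_⟩
    refine (agree x.1 ⟨z.1, i.le z.2⟩).trans ?_
    have e1 := hab z
    dsimp only at e1
    refine (congrArg (· • _) e1).trans ?_
    change (Localization.mk (X.presheaf.germ W z.1 z.2 a) (regGerm z b) : KStalk X z.1) • LocalizedModule.mk _ 1 = _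
    rw [LocalizedModule.mk_smul_mk, mul_one]
    refine mk_congr ?_ rfl
    rw [germ_smul]
    exact congrArg _ (TopCat.Presheaf.germ_res_apply L.presheaf i z.1 z.2 (l x.1)).symm
  · change q • val y = 0 at hq
    rw [smul_smul, ← zero_smul (KStalk X y) (toM L y (L.presheaf.germ (U y) y (hxU y) (l y)))] at hq
    have h0 := coeff_unique (hframe y) (hxU y) hq
    exact ((f y).isUnit.map (evalK X (U y) ⟨y, hxU y⟩)).mul_left_eq_zero.mp h0

end Groth.Agent.MeroDivLead
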